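import Cfsg.Agent.Lib.Orth.NegOne
import Cfsg.Prelude.Def_LieTypeDatum

/-!
The two classes of maximal totally singular subspaces and the sign `det g / μ^M` of a similarity.
-/

set_option autoImplicit false
set_option linter.unusedSectionVars false

namespace CfsgLib.POmegaSim

open Matrix QuadraticMap CfsgLib.Orth Module

variable {K : Type*} [Field K] {ι : Type} [Fintype ι] [DecidableEq ι] {Q : QuadraticForm K (ι → K)}

/-- Totally singular. -/
abbrev TSing (Q : QuadraticForm K (ι → K)) (U : Submodule K (ι → K)) : Prop :=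
  Cfsg.Geo.IsTotallySingularQuad (⇑Q) U

theorem tsing_polar {U : Submodule K (ι → K)} (hU : TSing Q U) {x y : ι → K} (hx : x ∈ U) (hy : y ∈ U) :
    polar Q x y = 0 := by
  rw [QuadraticMap.polar, hU _ hx, hU _ hy, hU _ (U.add_mem hx hy)]
  simp

theorem tsing_sup_span {W : Submodule K (ι → K)} (hW : TSing Q W) {u : ι → K} (hu : Q u = 0)
    (h : ∀ w ∈ W, polar Q u w = 0) : TSing Q (W ⊔ Submodule.span K {u}) := by
  intro z hz
  obtain ⟨w, hw, z', hz', rfl⟩ := Submodule.mem_sup.1 hz
  obtain ⟨t, rfl⟩ := Submodule.mem_span_singleton.1 hz'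
  rw [QuadraticMap.map_add Q, QuadraticMap.map_smul, hW _ hw, hu, QuadraticMap.polar_smul_right,
    QuadraticMap.polar_comm Q w u, h _ hw]
  simp

theorem exists_pairing {W X : Submodule K (ι → K)} (hW : Cfsg.IsMaxTotallySingular (⇑Q) W)
    (hX : TSing Q X) (h : ¬ X ≤ W) : ∃ u ∈ X, ∃ w ∈ W, polar Q u w ≠ 0 := by
  obtain ⟨u, huX, huW⟩ := SetLike.not_le_iff_exists.1 h
  refine ⟨u, huX, ?_⟩
  by_contra hc
  push Not at hc
  have h' := hW.2 _ (tsing_sup_span hW.1 (hX u huX) hc) le_sup_left
  exact huW (h' ▸ Submodule.mem_sup_right (Submodule.mem_span_singleton_self u))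

theorem finrank_le_inf_ker_add_one (A : Submodule K (ι → K)) (φ : (ι → K) →ₗ[K] K) :
    finrank K A ≤ finrank K ↥(A ⊓ LinearMap.ker φ) + 1 := by
  by_cases h : A ≤ LinearMap.ker φ
  · rw [inf_eq_left.2 h]; omega
  obtain ⟨y, hyA, hy⟩ := SetLike.not_le_iff_exists.1 h
  rw [LinearMap.mem_ker] at hy
  have hle : A ≤ (A ⊓ LinearMap.ker φ) ⊔ Submodule.span K {y} := fun z hz => by
    rw [← sub_add_cancel z ((φ z / φ y) • y)]
    exact Submodule.add_mem_sup ⟨A.sub_mem hz (A.smul_mem _ hyA), by
      rw [SetLike.mem_coe, LinearMap.mem_ker, map_sub, map_smul, smul_eq_mul, div_mul_cancel₀ _ hy, sub_self]⟩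
      (Submodule.smul_mem _ _ (Submodule.mem_span_singleton_self y))
  refine (Submodule.finrank_mono hle).trans ((Submodule.finrank_add_le_finrank_add_finrank _ _).trans ?_)
  rw [finrank_span_singleton (fun hy0 => hy (by rw [hy0, map_zero]))]

/-- A totally singular subspace is carried into a maximal one by reflections, as many as its excess. -/
theorem exists_move {W : Submodule K (ι → K)} (hW : Cfsg.IsMaxTotallySingular (⇑Q) W) :
    ∀ (n : ℕ) (X : Submodule K (ι → K)), TSing Q X → finrank K X - finrank K ↥(X ⊓ W) = n →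
      ∃ h : O Q, detHom Q h = (-1) ^ n ∧ X.map (app h) ≤ W := by
  intro n
  induction n with
  | zero =>
    intro X hX hn
    refine ⟨1, by rw [map_one, pow_zero], ?_⟩
    have hle : X ⊓ W = X :=
      Submodule.eq_of_le_of_finrank_le inf_le_left (by omega)
    intro y hy
    obtain ⟨x, hx, rfl⟩ := Submodule.mem_map.1 hy
    rw [app_one]
    exact (hle.symm.le hx).2
  | succ n ih =>
    intro X hX hn
    have hnot : ¬ X ≤ W := fun h => by rw [inf_eq_left.2 h] at hn; omega
    obtain ⟨u, hu, w, hw, huw⟩ := exists_pairing hW hX hnot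
    set v := u - w with hv
    have hQv : Q v = -polar Q u w := by
      rw [hv, sub_eq_add_neg, QuadraticMap.map_add Q, QuadraticMap.map_neg, hX u hu, hW.1 w hw,
        QuadraticMap.polar_neg_right]
      simp
    have hv0 : Q v ≠ 0 := by rw [hQv]; exact neg_ne_zero.2 huw
    set r := refl Q v
    set X' := X.map (app r) with hX'
    have hX's : TSing Q X' := by
      intro z hz
      obtain ⟨x, hx, rfl⟩ := Submodule.mem_map.1 hz
      rw [Q_app]
      exact hX x hx
    have hrank : finrank K ↥X' = finrank K X :=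
      (Submodule.equivMapOfInjective (app r) (app_injective r) X).finrank_eq.symm
    have hru : app r u = w := by
      rw [app_refl, hQv, hv, QuadraticMap.polar_sub_right, polar_self', hX u hu, mul_zero, zero_sub,
        inv_mul_cancel₀ (neg_ne_zero.2 huw), one_smul, sub_sub_cancel]
    have hfix : ∀ x ∈ X ⊓ W, app r x = x := fun x hx =>
      app_refl_of_ortho (by
        rw [hv, QuadraticMap.polar_sub_right, tsing_polar hX hx.1 hu, tsing_polar hW.1 hx.2 hw, sub_zero])
    have hge : finrank K ↥(X ⊓ W) < finrank K ↥(X' ⊓ W) := by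
      refine Submodule.finrank_lt_finrank_of_lt (lt_of_le_of_ne (fun x hx => ⟨?_, hx.2⟩) fun he => ?_)
      · exact Submodule.mem_map.2 ⟨x, hx.1, hfix x hx⟩
      · have : w ∈ X' ⊓ W := ⟨Submodule.mem_map.2 ⟨u, hu, hru⟩, hw⟩
        rw [← he] at this
        exact huw (tsing_polar hX hu this.1)
    have hle : finrank K ↥(X' ⊓ W) ≤ finrank K ↥(X ⊓ W) + 1 := by
      refine (finrank_le_inf_ker_add_one (X' ⊓ W) (Q.polarBilin.flip v)).trans
        (Nat.add_le_add_right (Submodule.finrank_mono ?_) 1)
      rintro y ⟨⟨hy, hyW⟩, hyv⟩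
      refine ⟨?_, hyW⟩
      obtain ⟨x, hx, rfl⟩ := Submodule.mem_map.1 hy
      have hyv' : polar Q (app r x) v = 0 := hyv
      have : app r (app r x) = app r x := app_refl_of_ortho hyv'
      rwa [app_injective r this]
    have hn' : finrank K ↥X' - finrank K ↥(X' ⊓ W) = n := by
      have := Submodule.finrank_mono (inf_le_left : X' ⊓ W ≤ X')
      omega
    obtain ⟨h, hdet, hh⟩ := ih X' hX's hn'
    refine ⟨h * r, by rw [map_mul, hdet, detHom_refl hv0, pow_succ], ?_⟩
    intro y hy
    obtain ⟨x, hx, rfl⟩ := Submodule.mem_map.1 hy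
    rw [app_mul]
    exact hh (Submodule.mem_map.2 ⟨_, Submodule.mem_map.2 ⟨x, hx, rfl⟩, rfl⟩)

section Split

variable {M : ℕ} (e : (Fin M ⊕ Fin M → K) ≃ₗ[K] (ι → K))

/-- The image of the standard maximal totally singular subspace. -/
def stdMax : Submodule K (ι → K) :=
  LinearMap.range (e.toLinearMap.comp
    ({ toFun := fun x => Sum.elim x 0
       map_add' := fun x y => by funext i; rcases i with i | i <;> simp
       map_smul' := fun c x => by funext i; rcases i with i | i <;> simp } :
      (Fin M → K) →ₗ[K] (Fin M ⊕ Fin M → K)))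

theorem mem_stdMax {v : ι → K} : v ∈ stdMax e ↔ ∀ i, e.symm v (.inr i) = 0 := by
  constructor
  · rintro ⟨x, rfl⟩ i
    simp
  · intro h
    refine ⟨fun i => e.symm v (.inl i), ?_⟩
    simp only [LinearMap.comp_apply]
    refine e.symm.injective ?_
    rw [LinearEquiv.coe_coe, LinearEquiv.symm_apply_apply]
    funext i
    rcases i with i | i
    · rfl
    · exact (h i).symm

variable (he : ∀ x, Q (e x) = plusQ M K x)
include he

theorem polar_e (x y : Fin M ⊕ Fin M → K) : polar Q (e x) (e y) = polar (plusQ M K) x y := by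
  rw [QuadraticMap.polar, ← map_add, he, he, he]
  rfl

theorem isMax_stdMax : Cfsg.IsMaxTotallySingular (⇑Q) (stdMax e) := by
  constructor
  · intro v hv
    rw [← e.apply_symm_apply v, he, plusQ_coe]
    simp [Cfsg.quadFormPlus, (mem_stdMax e).1 hv]
  · intro W hW hle
    refine le_antisymm (fun v hv => (mem_stdMax e).2 fun i => ?_) hle
    have hei : e (Pi.single (.inl i) 1) ∈ W := hle ((mem_stdMax e).2 fun j => by simp)
    have h := tsing_polar hW hv hei
    rw [← e.apply_symm_apply v, polar_e e he, polar_plusQ] at h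
    simpa [Pi.single_apply] using h

theorem finrank_stdMax : finrank K ↥(stdMax e) = M := by
  refine (LinearMap.finrank_range_of_inj ?_).trans (by simp)
  intro x y h
  funext i
  have := congrFun (e.injective h) (.inl i)
  simpa using this

theorem finrank_le_of_tsing {U : Submodule K (ι → K)} (hU : TSing Q U) : finrank K U ≤ M := by
  obtain ⟨h, -, hh⟩ := exists_move (isMax_stdMax e he) _ U hU rfl
  calc finrank K U = finrank K ↥(U.map (app h)) :=
        (Submodule.equivMapOfInjective (app h) (app_injective h) U).finrank_eq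
    _ ≤ finrank K ↥(stdMax e) := Submodule.finrank_mono hh
    _ = M := finrank_stdMax e he

theorem isMax_of_finrank {U : Submodule K (ι → K)} (hU : TSing Q U) (h : finrank K U = M) :
    Cfsg.IsMaxTotallySingular (⇑Q) U :=
  ⟨hU, fun W hW hle => (Submodule.eq_of_le_of_finrank_le hle (by
    rw [h]; exact finrank_le_of_tsing e he hW)).symm⟩

theorem exists_std {U : Submodule K (ι → K)} (hU : Cfsg.IsMaxTotallySingular (⇑Q) U) :
    ∃ h : O Q, (stdMax e).map (app h) = U ∧ finrank K U = M := by
  obtain ⟨h, -, hh⟩ := exists_move hU _ (stdMax e) (isMax_stdMax e he).1 rfl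
  have hr : finrank K ↥((stdMax e).map (app h)) = M :=
    (Submodule.equivMapOfInjective (app h) (app_injective h) _).finrank_eq.symm.trans (finrank_stdMax e he)
  have hM : finrank K U = M :=
    le_antisymm (finrank_le_of_tsing e he hU.1) (hr ▸ Submodule.finrank_mono hh)
  exact ⟨h, Submodule.eq_of_le_of_finrank_eq hh (hr.trans hM.symm), hM⟩

/-- A similarity stabilising the standard subspace has determinant `μ^M`. -/
theorem det_of_stab (g : (ι → K) →ₗ[K] (ι → K)) {c : K} (hc : ∀ v, Q (g v) = c * Q v)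
    (hg : ∀ v ∈ stdMax e, g v ∈ stdMax e) : LinearMap.det g = c ^ M := by
  set f : (Fin M ⊕ Fin M → K) →ₗ[K] (Fin M ⊕ Fin M → K) := e.symm.toLinearMap ∘ₗ g ∘ₗ e.toLinearMap
  have hdet : LinearMap.det g = (LinearMap.toMatrix' f).det := by
    rw [LinearMap.det_toMatrix']
    exact (LinearMap.det_conj g e.symm).symm
  rw [hdet]
  set X := LinearMap.toMatrix' f
  have hX : ∀ i j, X i j = e.symm (g (e (Pi.single j 1))) i := fun i j => by
    simp [X, f, LinearMap.toMatrix'_apply]
  have h21 : X.toBlocks₂₁ = 0 := by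
    ext i j
    show X (.inr i) (.inl j) = 0
    rw [hX]
    exact (mem_stdMax e).1 (hg _ ((mem_stdMax e).2 fun l => by simp)) i
  have hpol : ∀ x y, polar Q (g (e x)) (g (e y)) = c * polar (plusQ M K) x y := fun x y => by
    rw [QuadraticMap.polar, ← map_add, hc, hc, hc, ← polar_e e he, QuadraticMap.polar]
    ring
  have hAD : X.toBlocks₁₁ᵀ * X.toBlocks₂₂ = c • 1 := by
    ext i j
    have h := hpol (Pi.single (.inl i) 1) (Pi.single (.inr j) 1)
    rw [← e.apply_symm_apply (g (e (Pi.single (.inl i) 1))), ← e.apply_symm_apply (g (e (Pi.single (.inr j) 1))),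
      polar_e e he, polar_plusQ, polar_plusQ] at h
    have h0 : ∀ l, e.symm (g (e (Pi.single (Sum.inl i) 1))) (.inr l) = 0 := fun l =>
      (mem_stdMax e).1 (hg _ ((mem_stdMax e).2 fun l => by simp)) l
    simp [h0, ← hX, Pi.single_apply] at h
    simp [Matrix.mul_apply, toBlocks₁₁, toBlocks₂₂, h, Matrix.one_apply, eq_comm]
  rw [← fromBlocks_toBlocks X, h21, det_fromBlocks_zero₂₁, ← det_transpose X.toBlocks₁₁, ← det_mul, hAD,
    det_smul, det_one, Fintype.card_fin, mul_one]

/-- A similarity preserves the classes exactly when `det g = μ^M`. -/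
theorem preserves_iff (hne : (-1 : K) ≠ 1) (g : Matrix ι ι K) {c : K} (hc0 : c ≠ 0) (hdet : g.det ≠ 0)
    (hc : ∀ v, Q (g *ᵥ v) = c * Q v) :
    Cfsg.PreservesSingularClasses (⇑Q) g ↔ g.det = c ^ M := by
  have key : ∀ U, Cfsg.IsMaxTotallySingular (⇑Q) U → (Cfsg.SameParityClass U (Cfsg.imageSubmodule g U) ↔
      g.det = c ^ M) := by
    intro U hU
    obtain ⟨h1, hh1, hUM⟩ := exists_std e he hU
    have hinj : Function.Injective (Matrix.toLin' g) := by
      rw [← LinearMap.ker_eq_bot]
      by_contra hk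
      exact hdet (by rw [← LinearMap.det_toLin']; exact LinearMap.det_eq_zero_iff_ker_ne_bot.2 hk)
    have hgT : TSing Q (Cfsg.imageSubmodule g U) := by
      intro z hz
      obtain ⟨x, hx, rfl⟩ := Submodule.mem_map.1 hz
      rw [Matrix.toLin'_apply, hc, hU.1 x hx, mul_zero]
    have hgM : finrank K ↥(Cfsg.imageSubmodule g U) = M :=
      ((Submodule.equivMapOfInjective _ hinj U).finrank_eq.symm).trans hUM
    obtain ⟨h2, hd2, hh2⟩ := exists_move (isMax_of_finrank e he hgT hgM) _ U hU.1 rfl
    have hh2' : U.map (app h2) = Cfsg.imageSubmodule g U :=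
      Submodule.eq_of_le_of_finrank_eq hh2
        (((Submodule.equivMapOfInjective (app h2) (app_injective h2) U).finrank_eq.symm).trans (hUM.trans hgM.symm))
    let f : (ι → K) →ₗ[K] (ι → K) := app h1⁻¹ ∘ₗ app h2⁻¹ ∘ₗ Matrix.toLin' g ∘ₗ app h1
    have hf : LinearMap.det f = c ^ M := by
      refine det_of_stab e he f (fun v => ?_) fun v hv => ?_
      · simp only [f, LinearMap.comp_apply, Q_app, Matrix.toLin'_apply, hc]
      · have h3 : Matrix.toLin' g (app h1 v) ∈ Cfsg.imageSubmodule g U :=
          Submodule.mem_map.2 ⟨_, hh1 ▸ Submodule.mem_map.2 ⟨v, hv, rfl⟩, rfl⟩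
        rw [← hh2'] at h3
        obtain ⟨x, hx, hxe⟩ := Submodule.mem_map.1 h3
        rw [← hh1] at hx
        obtain ⟨y, hy, rfl⟩ := Submodule.mem_map.1 hx
        simp only [f, LinearMap.comp_apply, ← hxe, app_inv_app]
        exact hy
    have hdetapp : ∀ h : O Q, LinearMap.det (app h) = (detHom Q h : K) := fun h => by
      show LinearMap.det (Matrix.toLin' ((h : GL ι K) : Matrix ι ι K)) = _
      rw [LinearMap.det_toLin']
      rfl
    simp only [f, LinearMap.det_comp, hdetapp, LinearMap.det_toLin'] at hf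
    have hh : ((detHom Q h1⁻¹ : Kˣ) : K) * (detHom Q h1 : Kˣ) = 1 := by
      rw [← Units.val_mul, ← map_mul, inv_mul_cancel, map_one, Units.val_one]
    have hd : ((detHom Q h2⁻¹ : Kˣ) : K) * g.det = c ^ M := by linear_combination hf - (detHom Q h2⁻¹ : Kˣ) * g.det * hh
    rw [map_inv, hd2] at hd
    set n := finrank K ↥U - finrank K ↥(U ⊓ Cfsg.imageSubmodule g U) with hn
    show Even n ↔ _
    rcases Nat.even_or_odd n with hev | hod
    · simp [hev.neg_one_pow] at hd
      exact iff_of_true hev hd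
    · simp [hod.neg_one_pow] at hd
      refine iff_of_false (Nat.not_even_iff_odd.2 hod) fun hg => ?_
      have h20 : (2 : K) * c ^ M = 0 := by linear_combination -hg - hd
      have : (2 : K) = 0 := (mul_eq_zero.1 h20).resolve_right (pow_ne_zero _ hc0)
      exact hne (by linear_combination -this)
  refine ⟨fun h => (key _ (isMax_stdMax e he)).1 (h _ (isMax_stdMax e he)), fun h U hU => (key U hU).2 h⟩

end Split

end CfsgLib.POmegaSim
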