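import Cfsg.Agent.Lib.POmegaSim.Forms
import Cfsg.Agent.Lib.POmegaSim.Parity
import Cfsg.Agent.Lib.UnitaryEmbed.Realify

/-!
The class preserving similarities of the forms of plus and minus type.
-/

set_option autoImplicit false
set_option linter.unusedSectionVars false

namespace CfsgLib.POmegaSim

open Matrix QuadraticMap CfsgLib.Orth Polynomial

universe u

variable {F : Type u} [Field F] [Fintype F]

theorem neg_one_ne' (h2 : (2 : F) ≠ 0) : (-1 : F) ≠ 1 := fun h => h2 (by linear_combination -h)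

theorem sgn_iff {ι : Type} [Fintype ι] [DecidableEq ι] {Q : QuadraticForm F (ι → F)} (S : SimData Q)
    (x : ↥(Sim Q)) : S.sgn x = 1 ↔ (x.1 : Matrix ι ι F).det = (S.mult x : F) ^ S.M := by
  rw [S.sgn_eq_one_iff, Units.ext_iff, S.sdet_apply, Units.val_one,
    mul_inv_eq_one₀ (pow_ne_zero _ (Units.ne_zero _))]

theorem plus_preserves {m : ℕ} (hm : 4 ≤ m) (h2 : (2 : F) ≠ 0) (x : ↥(Sim (plusQ m F))) :
    Cfsg.PreservesSingularClasses (Cfsg.quadFormPlus m F) (x.1 : Matrix (Fin m ⊕ Fin m) (Fin m ⊕ Fin m) F) ↔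
      (plusSim hm h2).sgn x = 1 := by
  rw [← plusQ_coe, sgn_iff]
  exact preserves_iff (LinearEquiv.refl F _) (fun _ => rfl) (neg_one_ne' h2) _ (Units.ne_zero _)
    (GeneralLinearGroup.det x.1).ne_zero ((plusSim hm h2).mult_spec x)

/-- The quotient theorem for a class preservation predicate equivalent to `sgn = 1`. -/
theorem inndiag_structure {ι : Type} [Fintype ι] [DecidableEq ι] {Q : QuadraticForm F (ι → F)} (S : SimData Q)
    (P : GL ι F → Prop) (hP : ∀ x : ↥(Sim Q), P x.1 ↔ S.sgn x = 1) :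
    let A := Cfsg.autSubgroupOf (fun β : Cfsg.POmega F ⇑Q ≃* Cfsg.POmega F ⇑Q =>
      ∃ g : GL ι F, g ∈ Sim Q ∧ P g ∧ Cfsg.IsInducedBySemilinearPOmega ⇑Q g (RingEquiv.refl F) β)
    (SimData.negO Q ∉ Cfsg.Omega F ⇑Q → ∃ φ : ↥A →* Multiplicative (ZMod 2), Function.Surjective φ ∧
      φ.ker = (Cfsg.Inn (Cfsg.POmega F ⇑Q)).subgroupOf A) ∧
    (SimData.negO Q ∈ Cfsg.Omega F ⇑Q → Odd S.M → ∃ φ : ↥A →* Multiplicative (ZMod 4), Function.Surjective φ ∧
      φ.ker = (Cfsg.Inn (Cfsg.POmega F ⇑Q)).subgroupOf A) ∧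
    (SimData.negO Q ∈ Cfsg.Omega F ⇑Q → Even S.M → ∃ φ : ↥A →* Multiplicative (ZMod 2 × ZMod 2),
      Function.Surjective φ ∧ φ.ker = (Cfsg.Inn (Cfsg.POmega F ⇑Q)).subgroupOf A) := by
  intro A
  refine S.inndiag_mod_inn ?_
  rw [← autSubgroup_eq S.sgn.ker (fun g => g ∈ Sim Q ∧ P g)
    (fun g => ⟨fun ⟨h, hp⟩ => ⟨h, (hP ⟨g, h⟩).1 hp⟩, fun ⟨h, hk⟩ => ⟨h, (hP ⟨g, h⟩).2 hk⟩⟩)]
  simp only [A, and_assoc]

/-- The same with the form given as a function. -/
theorem inndiag_structure' {ι : Type} [Fintype ι] [DecidableEq ι] {Q : QuadraticForm F (ι → F)} (S : SimData Q)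
    {Qf : (ι → F) → F} (hQf : ⇑Q = Qf) (P : GL ι F → Prop) (hP : ∀ x : ↥(Sim Q), P x.1 ↔ S.sgn x = 1)
    (A : Subgroup (MulAut (Cfsg.POmega F Qf)))
    (hA : A = Cfsg.autSubgroupOf (fun β : Cfsg.POmega F Qf ≃* Cfsg.POmega F Qf =>
      ∃ g : GL ι F, g ∈ Cfsg.Geo.quadSimilarityGroup (F := F) Qf ∧ P g ∧
        Cfsg.IsInducedBySemilinearPOmega Qf g (RingEquiv.refl F) β)) :
    (SimData.negO Q ∉ Cfsg.Omega F ⇑Q → ∃ φ : ↥A →* Multiplicative (ZMod 2), Function.Surjective φ ∧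
      φ.ker = (Cfsg.Inn (Cfsg.POmega F Qf)).subgroupOf A) ∧
    (SimData.negO Q ∈ Cfsg.Omega F ⇑Q → Odd S.M → ∃ φ : ↥A →* Multiplicative (ZMod 4), Function.Surjective φ ∧
      φ.ker = (Cfsg.Inn (Cfsg.POmega F Qf)).subgroupOf A) ∧
    (SimData.negO Q ∈ Cfsg.Omega F ⇑Q → Even S.M → ∃ φ : ↥A →* Multiplicative (ZMod 2 × ZMod 2),
      Function.Surjective φ ∧ φ.ker = (Cfsg.Inn (Cfsg.POmega F Qf)).subgroupOf A) := by
  subst hQf hA
  exact inndiag_structure S P hP

/-- Coordinates making the minus form hyperbolic over a field containing both roots. -/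
def splitEquiv {K : Type*} [Field K] (m : ℕ) (θ θ' : K) (hθ : θ' ≠ θ) :
    (Fin (m + 1) ⊕ Fin (m + 1) → K) ≃ₗ[K] ((Fin m ⊕ Fin m) ⊕ Fin 2 → K) where
  toFun p := Sum.elim (Sum.elim (fun i => p (.inl i.succ)) (fun i => p (.inr i.succ)))
    ![p (.inl 0) - θ * ((p (.inl 0) - p (.inr 0)) / (θ - θ')), (p (.inl 0) - p (.inr 0)) / (θ - θ')]
  invFun v := Sum.elim (Fin.cons (v (.inr 0) + θ * v (.inr 1)) (fun i => v (.inl (.inl i))))
    (Fin.cons (v (.inr 0) + θ' * v (.inr 1)) (fun i => v (.inl (.inr i))))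
  left_inv p := by
    have h : θ - θ' ≠ 0 := sub_ne_zero.2 hθ.symm
    funext i
    rcases i with i | i <;> refine Fin.cases ?_ (fun j => ?_) i <;> simp
    field_simp
    ring
  right_inv v := by
    have h : θ - θ' ≠ 0 := sub_ne_zero.2 hθ.symm
    funext i
    rcases i with (i | i) | i
    · simp
    · simp
    · fin_cases i <;> simp <;> field_simp <;> ring
  map_add' p p' := by
    funext i
    rcases i with (i | i) | i
    · simp
    · simp
    · fin_cases i <;> simp <;> ring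
  map_smul' c p := by
    funext i
    rcases i with (i | i) | i
    · simp
    · simp
    · fin_cases i <;> simp <;> ring

theorem splitEquiv_form {K : Type*} [Field K] (m : ℕ) {A B θ θ' : K} (hθ : θ' ≠ θ) (hs : θ + θ' = A)
    (hp : θ * θ' = B) (p : Fin (m + 1) ⊕ Fin (m + 1) → K) :
    minusQ m K A B (splitEquiv m θ θ' hθ p) = plusQ (m + 1) K p := by
  have h : θ - θ' ≠ 0 := sub_ne_zero.2 hθ.symm
  subst hs hp
  rw [minusQ_coe, plusQ_coe]
  simp only [Cfsg.quadFormMinus, Cfsg.quadFormPlus, splitEquiv, LinearEquiv.coe_mk, LinearMap.coe_mk,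
    AddHom.coe_mk, Sum.elim_inl, Sum.elim_inr, Matrix.cons_val_zero, Matrix.cons_val_one,
    Matrix.cons_val_fin_one, Fin.sum_univ_succ]
  field_simp
  ring

/-- The base change of a similarity. -/
theorem similar_map {K : Type*} [Field K] (f : F →+* K) {m : ℕ} {a b : F}
    (g : Matrix ((Fin m ⊕ Fin m) ⊕ Fin 2) ((Fin m ⊕ Fin m) ⊕ Fin 2) F) {c : F}
    (hc : ∀ v, minusQ m F a b (g *ᵥ v) = c * minusQ m F a b v)
    (v : (Fin m ⊕ Fin m) ⊕ Fin 2 → K) :
    minusQ m K (f a) (f b) (g.map f *ᵥ v) = f c * minusQ m K (f a) (f b) v := by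
  have hcomp : ∀ w, minusQ m K (f a) (f b) (f ∘ w) = f (minusQ m F a b w) := fun w => by
    simp [minusQ_coe, Cfsg.quadFormMinus]
  have hmv : ∀ w, g.map f *ᵥ (f ∘ w) = f ∘ (g *ᵥ w) := fun w => funext fun i =>
    (RingHom.map_mulVec f g w i).symm
  have hsingle : ∀ j, (Pi.single j 1 : (Fin m ⊕ Fin m) ⊕ Fin 2 → K) = f ∘ Pi.single j 1 := fun j => by
    funext i
    by_cases h : i = j
    · subst h; simp
    · simp [h]
  have hadd : ∀ w w' : (Fin m ⊕ Fin m) ⊕ Fin 2 → F, (f ∘ (w + w') : _ → K) = f ∘ w + f ∘ w' :=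
    fun w w' => funext fun i => map_add f _ _
  have hpol : ∀ w w', polar (minusQ m K (f a) (f b)) (g.map f *ᵥ (f ∘ w)) (g.map f *ᵥ (f ∘ w')) =
      f c * polar (minusQ m K (f a) (f b)) (f ∘ w) (f ∘ w') := fun w w' => by
    rw [QuadraticMap.polar, QuadraticMap.polar, ← Matrix.mulVec_add, ← hadd, hmv, hmv, hmv, hcomp, hcomp,
      hcomp, hcomp, hcomp, hcomp, hc, hc, hc, map_mul, map_mul, map_mul]
    ring
  have hlin : v = ∑ j, v j • (Pi.single j 1 : (Fin m ⊕ Fin m) ⊕ Fin 2 → K) := by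
    conv_lhs => rw [← Finset.univ_sum_single v]
    exact Finset.sum_congr rfl fun j _ => by rw [← Pi.single_smul, smul_eq_mul, mul_one]
  rw [hlin, Matrix.mulVec_sum]
  generalize (Finset.univ : Finset ((Fin m ⊕ Fin m) ⊕ Fin 2)) = s
  induction s using Finset.induction_on with
  | empty => simp
  | insert j s hj ih =>
    rw [Finset.sum_insert hj, Finset.sum_insert hj, QuadraticMap.map_add (minusQ m K (f a) (f b)),
      QuadraticMap.map_add (minusQ m K (f a) (f b)), ih, Matrix.mulVec_smul, QuadraticMap.map_smul,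
      QuadraticMap.map_smul, hsingle j, hmv, hcomp, hcomp, hc, map_mul]
    have hp : ∀ t : Finset ((Fin m ⊕ Fin m) ⊕ Fin 2),
        polar (minusQ m K (f a) (f b)) (v j • f ∘ (g *ᵥ Pi.single j 1))
          (∑ x ∈ t, g.map f *ᵥ v x • Pi.single x 1) =
        f c * polar (minusQ m K (f a) (f b)) (v j • f ∘ Pi.single j 1) (∑ x ∈ t, v x • Pi.single x 1) := by
      intro t
      induction t using Finset.induction_on with
      | empty => simp
      | insert l t hl ih' =>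
        rw [Finset.sum_insert hl, Finset.sum_insert hl, QuadraticMap.polar_add_right,
          QuadraticMap.polar_add_right, ih', Matrix.mulVec_smul, hsingle l]
        simp only [QuadraticMap.polar_smul_left, QuadraticMap.polar_smul_right, smul_eq_mul, ← hmv, hpol]
        ring
    rw [hp s]
    simp only [smul_eq_mul]
    ring

theorem exists_quadratic_ext (a b : F)
    (hab : ∀ z₁ z₂ : F, z₁ ^ 2 + a * z₁ * z₂ + b * z₂ ^ 2 = 0 → z₁ = 0 ∧ z₂ = 0) :
    ∃ (K : Type u) (_ : Field K) (_ : Algebra F K), Module.finrank F K = 2 := by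
  let g : F[X] := X ^ 2 - Polynomial.C a * X + Polynomial.C b
  have hg2 : g.natDegree = 2 := by simp only [g]; compute_degree!
  have hirr : Irreducible g := by
    refine (irreducible_iff_roots_eq_zero_of_degree_le_three (by omega) (by omega)).2 ?_
    refine Multiset.eq_zero_of_forall_notMem fun z hz => ?_
    have hz' := (mem_roots (ne_zero_of_natDegree_gt (n := 1) (by omega))).1 hz
    have hz'' : z ^ 2 - a * z + b = 0 := by simpa [g] using hz'
    exact one_ne_zero (hab (-z) 1 (by linear_combination hz'')).2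
  have : Fact (Irreducible g) := ⟨hirr⟩
  exact ⟨AdjoinRoot g, inferInstance, inferInstance, by
    rw [(AdjoinRoot.powerBasis hirr.ne_zero).finrank, AdjoinRoot.powerBasis_dim, hg2]⟩

theorem minus_preserves {m : ℕ} (hm : 3 ≤ m) (h2 : (2 : F) ≠ 0) {a b : F}
    (hab : ∀ z₁ z₂ : F, z₁ ^ 2 + a * z₁ * z₂ + b * z₂ ^ 2 = 0 → z₁ = 0 ∧ z₂ = 0)
    (x : ↥(Sim (minusQ m F a b))) :
    Cfsg.PreservesSingularClassesMinus m a b
        (x.1 : Matrix ((Fin m ⊕ Fin m) ⊕ Fin 2) ((Fin m ⊕ Fin m) ⊕ Fin 2) F) ↔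
      (minusSim hm h2 hab).sgn x = 1 := by
  classical
  set S := minusSim hm h2 hab
  rw [sgn_iff]
  have key : ∀ (K : Type u) (_ : Field K) (_ : Algebra F K), Module.finrank F K = 2 →
      (Cfsg.PreservesSingularClasses (Cfsg.quadFormMinus m K (algebraMap F K a) (algebraMap F K b))
        ((x.1 : Matrix ((Fin m ⊕ Fin m) ⊕ Fin 2) ((Fin m ⊕ Fin m) ⊕ Fin 2) F).map (algebraMap F K)) ↔
      (x.1 : Matrix ((Fin m ⊕ Fin m) ⊕ Fin 2) ((Fin m ⊕ Fin m) ⊕ Fin 2) F).det =
        (S.mult x : F) ^ (m + 1)) := by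
    intro K _ _ h
    have : FiniteDimensional F K := FiniteDimensional.of_finrank_pos (by omega)
    have : Finite K := Module.finite_of_finite F
    let _ := Fintype.ofFinite K
    have hK : Fintype.card K = Fintype.card F ^ 2 := by rw [← h]; exact Module.card_eq_pow_finrank
    obtain ⟨θ, hθ, hs, hp⟩ := CfsgLib.UnitaryEmbed.exists_quadratic_root hK rfl (algebraMap F K) a b hab
    set θ' := θ ^ Fintype.card F
    have h2K : (2 : K) ≠ 0 := by
      rw [← map_ofNat (algebraMap F K) 2]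
      exact (_root_.map_ne_zero _).2 h2
    have hne : (-1 : K) ≠ 1 := fun h => h2K (by linear_combination -h)
    have hdetmap := (RingHom.map_det (algebraMap F K)
      (x.1 : Matrix ((Fin m ⊕ Fin m) ⊕ Fin 2) ((Fin m ⊕ Fin m) ⊕ Fin 2) F)).symm
    rw [RingHom.mapMatrix_apply] at hdetmap
    rw [← minusQ_coe, preserves_iff (splitEquiv m θ θ' hθ) (splitEquiv_form m hθ hs hp) hne _
      ((_root_.map_ne_zero (algebraMap F K)).2 (Units.ne_zero (S.mult x)))
      (by rw [hdetmap]; exact (_root_.map_ne_zero _).2 (GeneralLinearGroup.det x.1).ne_zero)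
      (similar_map (algebraMap F K) _ (S.mult_spec x)), hdetmap, ← map_pow,
      (algebraMap F K).injective.eq_iff]
  constructor
  · rintro ⟨K, hK1, hK2, h, hp⟩
    exact (key K hK1 hK2 h).1 hp
  · intro hd
    obtain ⟨K, hK1, hK2, h⟩ := exists_quadratic_ext a b hab
    exact ⟨K, hK1, hK2, h, (key K hK1 hK2 h).2 hd⟩

end CfsgLib.POmegaSim
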