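import Cfsg.Agent.Lib.POmegaSim.GraphAux
import Cfsg.Agent.Lib.AutPSL.Split

/-!
Splitting of the classes of graph involutions under the inner automorphisms.
-/

set_option autoImplicit false
set_option linter.unusedSectionVars false

namespace CfsgLib.POmegaSim

open Matrix QuadraticMap CfsgLib.Orth Cfsg.Agent.GammaO57 Cfsg.Agent.Spinor57 Module

variable {F : Type*} [Field F] [Fintype F] {ι : Type} [Fintype ι] [DecidableEq ι]
  {Q : QuadraticForm F (ι → F)}

theorem oS_injective : Function.Injective (oS Q) := fun _ _ h => Subtype.ext (congrArg Subtype.val h :)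

/-- The involution splits the space. -/
theorem isCompl_eigen (h2 : (2 : F) ≠ 0) {L : (ι → F) →ₗ[F] (ι → F)} (hL : ∀ v, L (L v) = v) :
    IsCompl (LinearMap.ker (L - LinearMap.id)) (LinearMap.ker (L + LinearMap.id)) := by
  constructor
  · rw [Submodule.disjoint_def]
    intro v h1 h2'
    simp [sub_eq_zero] at h1
    simp [h1] at h2'
    rw [← two_smul F] at h2'
    exact (smul_eq_zero.1 h2').resolve_left h2
  · rw [codisjoint_iff]
    refine eq_top_iff.2 fun v _ => Submodule.mem_sup.2 ⟨(2 : F)⁻¹ • (v + L v), ?_, (2 : F)⁻¹ • (v - L v), ?_, ?_⟩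
    · simp only [LinearMap.mem_ker, LinearMap.sub_apply, LinearMap.id_apply, map_smul, map_add, hL]
      module
    · simp only [LinearMap.mem_ker, LinearMap.add_apply, LinearMap.id_apply, map_smul, map_sub, hL]
      module
    · rw [← smul_add, show v + L v + (v - L v) = (2 : F) • v by rw [two_smul]; abel, smul_smul,
        inv_mul_cancel₀ h2, one_smul]

theorem det_of_involution (h2 : (2 : F) ≠ 0) {L : (ι → F) →ₗ[F] (ι → F)} (hL : ∀ v, L (L v) = v) :
    LinearMap.det L = (-1) ^ finrank F ↥(LinearMap.ker (L + LinearMap.id)) := by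
  set U := LinearMap.ker (L - LinearMap.id)
  set W := LinearMap.ker (L + LinearMap.id)
  let e := Submodule.prodEquivOfIsCompl U W (isCompl_eigen h2 hL)
  have hconj : L = e.toLinearMap ∘ₗ
      (LinearMap.prodMap LinearMap.id ((-1 : F) • LinearMap.id)) ∘ₗ e.symm.toLinearMap := by
    refine LinearMap.ext fun v => ?_
    obtain ⟨⟨⟨a, ha⟩, ⟨b, hb⟩⟩, rfl⟩ := e.surjective v
    simp only [LinearMap.comp_apply, LinearEquiv.coe_coe, e.symm_apply_apply, LinearMap.prodMap_apply,
      LinearMap.id_apply, LinearMap.smul_apply]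
    simp only [e, Submodule.coe_prodEquivOfIsCompl', map_add]
    have ha' : L a = a := by simpa [U, sub_eq_zero] using ha
    have hb' : L b = -b := by simpa [W, add_eq_zero_iff_eq_neg] using hb
    simp [ha', hb']
  conv_lhs => rw [hconj]
  rw [LinearMap.det_conj, LinearMap.det_prodMap, LinearMap.det_id, LinearMap.det_smul, LinearMap.det_id,
    one_mul, mul_one]

/-- A similarity of an odd-dimensional non-degenerate subspace has square multiplier. -/
theorem isSquare_of_odd (U : Submodule F (ι → F)) (hU : ∀ x ∈ U, (∀ y ∈ U, polar Q x y = 0) → x = 0)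
    {ν : F} (hν : ν ≠ 0) (L : (ι → F) →ₗ[F] (ι → F)) (hmap : ∀ x ∈ U, L x ∈ U)
    (hQL : ∀ x ∈ U, Q (L x) = ν * Q x) (hodd : Odd (finrank F U)) : IsSquare ν := by
  let e : (Fin (finrank F U) → F) ≃ₗ[F] U := (Module.finBasis F U).equivFun.symm
  set Q' := Q.comp (U.subtype ∘ₗ e.toLinearMap)
  have hQ' : Q'.polarBilin.Nondegenerate := CfsgLib.OrthOmega.sub_nondegenerate U hU e
  let L' : (Fin (finrank F U) → F) →ₗ[F] (Fin (finrank F U) → F) :=
    e.symm.toLinearMap ∘ₗ L.restrict hmap ∘ₗ e.toLinearMap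
  have hval : ∀ a, Q' (L' a) = ν * Q' a := fun a => by
    simp only [Q', L', QuadraticMap.comp_apply, LinearMap.comp_apply, LinearEquiv.coe_coe,
      LinearEquiv.apply_symm_apply, Submodule.subtype_apply]
    exact hQL _ (e a).2
  have hM : ∀ a, Q' (LinearMap.toMatrix' L' *ᵥ a) = ν * Q' a := fun a => by
    rw [← Matrix.toLin'_apply, Matrix.toLin'_toMatrix']; exact hval a
  have hinj : Function.Injective L' := by
    rw [injective_iff_map_eq_zero]
    intro a ha
    refine hQ'.1 a fun b => ?_
    have h := polar_of_mult hM a b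
    rw [← Matrix.toLin'_apply, ← Matrix.toLin'_apply, Matrix.toLin'_toMatrix', ha, polar_zero_left] at h
    exact (mul_eq_zero.1 h.symm).resolve_left hν
  have hdet : (LinearMap.toMatrix' L').det ≠ 0 := by
    rw [LinearMap.det_toMatrix']
    exact fun h => (LinearMap.det_eq_zero_iff_ker_ne_bot.1 h) (LinearMap.ker_eq_bot.2 hinj)
  have h := det_sq_of_similitude hQ' (g := GeneralLinearGroup.mkOfDetNeZero _ hdet) hM
  rw [Fintype.card_fin] at h
  obtain ⟨k, hk⟩ := hodd
  set D := (LinearMap.toMatrix' L').det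
  have h' : D ^ 2 = ν ^ (2 * k + 1) := h.trans (congrArg (ν ^ ·) hk)
  refine ⟨D / ν ^ k, ?_⟩
  have hk0 : ν ^ k ≠ 0 := pow_ne_zero k hν
  field_simp
  linear_combination -h'

namespace SimData

variable (S : SimData Q)
include S

theorem act_eq_one {y : ↥(Sim Q)} (h : act Q y = 1) : ∃ c, y = scalarS Q c := by
  obtain ⟨-, c, hc⟩ := gAut_eq_one S.hQ S.hn S.hyp (x := emb Q y) h
  exact ⟨c, Subtype.ext hc⟩

/-- Two anisotropic vectors permuted by a similarity. -/
theorem exists_commuting {x : ↥(Sim Q)} {v w : ι → F} (hv : Q v ≠ 0) (hw : Q w ≠ 0)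
    (hvw : ¬ IsSquare (Q v * Q w))
    (hx : (∃ c₁ c₂ : F, c₁ ≠ 0 ∧ c₂ ≠ 0 ∧ (x.1 : Matrix ι ι F) *ᵥ v = c₁ • v ∧
        (x.1 : Matrix ι ι F) *ᵥ w = c₂ • w) ∨
      (polar Q v w = 0 ∧ (x.1 : Matrix ι ι F) *ᵥ v = w ∧ ∃ c : F, c ≠ 0 ∧
        (x.1 : Matrix ι ι F) *ᵥ w = c • v)) :
    ∃ y : ↥(Sim Q), S.sgn y = 1 ∧ qcl Q y = S.ga * S.gb ∧ Commute x y := by
  classical
  set y := refl Q v * refl Q w
  have hchi : chiPair Q S.d y = (-1, -1) := by
    rw [map_mul, chiPair_refl' S.h2 S.hd hv, chiPair_refl' S.h2 S.hd hw, Prod.mk_mul_mk, neg_mul_neg,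
      ← sqSign_mul hv hw]
    rcases Int.units_eq_one_or (sqSign (Q v * Q w)) with h | h
    · exact absurd ((sqSign_eq_one_iff _).1 h) hvw
    · rw [h]
  have hdet : detHom Q y = 1 := by rw [map_mul, detHom_refl hv, detHom_refl hw]; simp
  refine ⟨oS Q y, S.sgn_oS_of_det hdet, ?_, ?_⟩
  · rw [ga, gb, ← map_mul, ← map_mul]
    exact S.qcl_congr (by rw [hchi, map_mul, S.chi_rA, S.chi_rB]; rfl)
  · have hr : ∀ u, x * oS Q (refl Q u) * x⁻¹ = oS Q (refl Q ((x.1 : Matrix ι ι F) *ᵥ u)) := fun u => by
      rw [conj_oS, conjO_refl]; rfl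
    have hc : x * oS Q y * x⁻¹ = oS Q y := by
      rw [map_mul, show x * (oS Q (refl Q v) * oS Q (refl Q w)) * x⁻¹ =
        (x * oS Q (refl Q v) * x⁻¹) * (x * oS Q (refl Q w) * x⁻¹) by group, hr, hr]
      rcases hx with ⟨c₁, c₂, h1, h2, e1, e2⟩ | ⟨ho, e1, c, hc, e2⟩
      · rw [e1, e2, refl_smul h1, refl_smul h2]
      · rw [e1, e2, refl_smul hc, ← map_mul, ← map_mul]
        congr 1
        have h := refl_conj (refl Q v) w
        rw [app_refl_of_ortho (by rw [polar_comm]; exact ho), refl_inv] at h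
        calc refl Q w * refl Q v = refl Q v * refl Q w * refl Q v * refl Q v := by rw [h]
          _ = refl Q v * refl Q w := by rw [mul_assoc (refl Q v * refl Q w), refl_mul_self, mul_one]
    exact mul_inv_eq_iff_eq_mul.1 hc

/-- The normal form of a similarity inducing a graph involution. -/
theorem graph_normal_form {x : ↥(Sim Q)} (hs : S.sgn x = -1) (hx : act Q (x * x) = 1) :
    (∃ (c : Fˣ) (h : O Q), x = scalarS Q c * oS Q h ∧ h * h = 1 ∧ detHom Q h = -1) ∨
    (¬ IsSquare (S.mult x : F) ∧ Odd S.M ∧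
      (x.1 : Matrix ι ι F) * (x.1 : Matrix ι ι F) = (S.mult x : F) • 1) := by
  obtain ⟨l, hl⟩ := S.act_eq_one hx
  set g := (x.1 : Matrix ι ι F)
  have hsd : S.sdet x = -1 := by
    rcases S.sdet_cases x with h | h
    · rw [← S.sgn_eq_one_iff, hs] at h; exact absurd h (by decide)
    · exact h
  have hgg : g * g = (l : F) • 1 := by
    have h := congrArg (fun y : ↥(Sim Q) => (y.1 : Matrix ι ι F)) hl
    simp only [Subgroup.coe_mul, Units.val_mul] at h
    rw [h]
    show Matrix.scalar ι (l : F) = _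
    rw [Matrix.scalar_apply, Matrix.smul_one_eq_diagonal]
  have hll : (l : F) * l = (S.mult x : F) * S.mult x := by
    rw [← S.mult_scalarS, ← hl, map_mul, Units.val_mul]
  rcases mul_self_eq_mul_self_iff.1 hll with e | e
  swap
  · exfalso
    rw [e] at hgg
    have hd := det_of_skew S.hQ S.h2 S.hM hgg (S.mult_spec x) (Units.ne_zero _)
    have h1 : (S.sdet x : F) = 1 := by
      rw [S.sdet_apply, hd, mul_inv_cancel₀ (pow_ne_zero _ (Units.ne_zero _))]
    rw [hsd] at h1
    exact S.neg_one_ne (Units.ext h1)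
  rw [e] at hgg
  by_cases hsq : IsSquare (S.mult x : F)
  · left
    obtain ⟨c, h, rfl⟩ := S.exists_isometry (x := x) ((sqSign_eq_one_iff _).2 hsq)
    refine ⟨c, h, rfl, oS_injective ?_, ?_⟩
    · have h1 : (S.mult (scalarS Q c * oS Q h) : F) = c * c := by
        rw [map_mul, S.mult_oS, mul_one, S.mult_scalarS]
      have h2 : scalarS Q c * oS Q h * (scalarS Q c * oS Q h) = scalarS Q (c * c) := by
        refine hl.trans (congrArg _ (Units.ext ?_))
        rw [e, h1, Units.val_mul]
      have hcomm : oS Q h * scalarS Q c = scalarS Q c * oS Q h :=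
        Subtype.ext (Units.ext (Matrix.scalar_commute (c : F) (fun _ => Commute.all _ _) _).eq.symm)
      have h3 : scalarS Q c * scalarS Q c = scalarS Q (c * c) :=
        Subtype.ext (map_mul (GeneralLinearGroup.scalar ι) c c).symm
      rw [mul_assoc, ← mul_assoc (oS Q h), hcomm, mul_assoc (scalarS Q c), ← mul_assoc, h3,
        ← map_mul] at h2
      rw [map_one]
      exact mul_left_cancel (h2.trans (mul_one _).symm)
    · rw [map_mul, S.sdet_scalarS, S.sdet_oS, one_mul] at hsd
      exact hsd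
  · right
    refine ⟨hsq, ?_, hgg⟩
    by_contra hM
    rw [Nat.not_odd_iff_even] at hM
    have hd := det_of_nonsquare S.hM hgg hsq
    have h1 : (S.sdet x : F) = 1 := by
      rw [S.sdet_apply, hd, hM.neg_pow, mul_inv_cancel₀ (pow_ne_zero _ (Units.ne_zero _))]
    rw [hsd] at h1
    exact S.neg_one_ne (Units.ext h1)

/-- A commuting element in the class of `ab`. -/
theorem exists_commuting_ab {x : ↥(Sim Q)} (hs : S.sgn x = -1) (hx : act Q (x * x) = 1) :
    ∃ y : ↥(Sim Q), S.sgn y = 1 ∧ qcl Q y = S.ga * S.gb ∧ Commute x y := by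
  classical
  rcases S.graph_normal_form hs hx with ⟨c, h, rfl, hh, hd⟩ | ⟨hns, -, hgg⟩
  · set L := app h
    have hL : ∀ v, L (L v) = v := fun v => by rw [← app_mul, hh, app_one]
    have hdet : LinearMap.det L = -1 := by
      have : LinearMap.det L = ((detHom Q h : Fˣ) : F) := by
        show LinearMap.det (Matrix.toLin' ((h : GL ι F) : Matrix ι ι F)) = _
        rw [LinearMap.det_toLin']; rfl
      rw [this, hd]; simp
    have hgv : ∀ v, ((scalarS Q c * oS Q h).1 : Matrix ι ι F) *ᵥ v = (c : F) • L v := fun v => by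
      show (Matrix.scalar ι (c : F) * ((h : GL ι F) : Matrix ι ι F)) *ᵥ v = _
      rw [← Matrix.mulVec_mulVec, Matrix.scalar_apply, ← Matrix.smul_one_eq_diagonal, Matrix.smul_mulVec,
        Matrix.one_mulVec]
      rfl
    have horth : ∀ a b, L a = a → L b = -b → polar Q a b = 0 := fun a b ha hb => by
      have h1 := polar_app h a b
      rw [show app h a = a from ha, show app h b = -b from hb, polar_neg_right] at h1
      have : (2 : F) * polar Q a b = 0 := by linear_combination -h1
      exact (mul_eq_zero.1 this).resolve_left S.h2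
    have hsplit : ∀ z, ∃ a b, L a = a ∧ L b = -b ∧ z = a + b ∧ Q z = Q a + Q b := fun z => by
      refine ⟨(2 : F)⁻¹ • (z + L z), (2 : F)⁻¹ • (z - L z), ?_, ?_, ?_, ?_⟩
      · simp [map_add, hL, add_comm]
      · simp [map_sub, hL, ← smul_neg]
      · rw [← smul_add, show z + L z + (z - L z) = (2 : F) • z by rw [two_smul]; abel, smul_smul,
          inv_mul_cancel₀ S.h2, one_smul]
      · conv_lhs => rw [show z = (2 : F)⁻¹ • (z + L z) + (2 : F)⁻¹ • (z - L z) by
          rw [← smul_add, show z + L z + (z - L z) = (2 : F) • z by rw [two_smul]; abel, smul_smul,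
            inv_mul_cancel₀ S.h2, one_smul]]
        rw [QuadraticMap.map_add Q, horth _ _ (by simp [map_add, hL, add_comm])
          (by simp [map_sub, hL, ← smul_neg]), add_zero]
    have hne : ∀ s : F, s = 1 ∨ s = -1 → ∃ v, L v = s • v ∧ Q v ≠ 0 := by
      rintro s hs'
      by_contra hc
      push Not at hc
      have hzero : ∀ a, L a = s • a → a = 0 := fun a ha => by
        refine S.hQ.1 a fun z => ?_
        show polar Q a z = 0
        obtain ⟨p, m, hp, hm, rfl, -⟩ := hsplit z
        rcases hs' with rfl | rfl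
        · rw [one_smul] at ha
          have hap : polar Q a p = 0 := by
            rw [QuadraticMap.polar, hc a (by rw [one_smul]; exact ha), hc p (by rw [one_smul]; exact hp),
              hc (a + p) (by rw [map_add, ha, hp, one_smul])]
            simp
          rw [polar_add_right, hap, horth a m ha hm, add_zero]
        · rw [neg_one_smul] at ha
          have ham : polar Q a m = 0 := by
            rw [QuadraticMap.polar, hc a (by rw [neg_one_smul]; exact ha), hc m (by rw [neg_one_smul]; exact hm),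
              hc (a + m) (by rw [map_add, ha, hm, neg_one_smul]; abel)]
            simp
          rw [polar_add_right, ham, polar_comm Q a p, horth p a hp ha, add_zero]
      have hall : ∀ z, L z = -s • z := fun z => by
        obtain ⟨p, m, hp, hm, rfl, -⟩ := hsplit z
        rcases hs' with rfl | rfl
        · rw [hzero p (by rw [one_smul]; exact hp), zero_add, hm, neg_one_smul]
        · rw [hzero m (by rw [neg_one_smul]; exact hm), add_zero, hp, neg_neg, one_smul]
      have hL1 : L = (-s) • LinearMap.id := LinearMap.ext fun z => by simp [hall]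
      rw [hL1, LinearMap.det_smul, LinearMap.det_id, mul_one, Module.finrank_fintype_fun_eq_card, S.hM,
        pow_mul] at hdet
      rcases hs' with rfl | rfl <;> simp at hdet <;> exact S.h2 (by linear_combination hdet)
    obtain ⟨v, hv1, hv⟩ := hne 1 (Or.inl rfl)
    obtain ⟨w, hw1, hw⟩ := hne (-1) (Or.inr rfl)
    rw [one_smul] at hv1
    rw [neg_one_smul] at hw1
    obtain ⟨v', w', hv'1, hw'1, hv', hw', hns⟩ : ∃ v' w', L v' = v' ∧ L w' = -w' ∧ Q v' ≠ 0 ∧ Q w' ≠ 0 ∧
        ¬ IsSquare (Q v' * Q w') := by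
      have hv0 : v ≠ 0 := fun e => hv (by rw [e, QuadraticMap.map_zero])
      have hw0 : w ≠ 0 := fun e => hw (by rw [e, QuadraticMap.map_zero])
      obtain ⟨z, hz, hzU⟩ := CfsgLib.OrthOmega.exists_anisotropic_ortho S.hQ
        (Submodule.span F {v} ⊔ Submodule.span F {w}) (by
          have h3 := Submodule.finrank_add_le_finrank_add_finrank (Submodule.span F {v}) (Submodule.span F {w})
          rw [finrank_span_singleton hv0, finrank_span_singleton hw0] at h3
          have := S.hn
          omega)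
      have hzv : polar Q v z = 0 := hzU v (Submodule.mem_sup_left (Submodule.mem_span_singleton_self _))
      have hzw : polar Q w z = 0 := hzU w (Submodule.mem_sup_right (Submodule.mem_span_singleton_self _))
      obtain ⟨p, m, hp, hm, rfl, hQz⟩ := hsplit z
      have hpv : polar Q v p = 0 := by
        rw [polar_add_right, horth v m hv1 hm, add_zero] at hzv; exact hzv
      have hmw : polar Q w m = 0 := by
        rw [polar_add_right, polar_comm Q w p, horth p w hp hw1, zero_add] at hzw; exact hzw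
      by_cases hp0 : Q p = 0
      · have hm0 : Q m ≠ 0 := fun e => hz (by rw [hQz, hp0, e, add_zero])
        obtain ⟨s, t, hst⟩ := exists_binary S.h2 hw hm0 (S.d * Q v)
        refine ⟨v, s • w + t • m, hv1, by rw [map_add, map_smul, map_smul, hw1, hm]; module, hv, ?_⟩
        have hq : Q (s • w + t • m) = S.d * Q v := by
          rw [QuadraticMap.map_add Q, QuadraticMap.map_smul, QuadraticMap.map_smul, polar_smul_left,
            polar_smul_right, hmw, ← hst]
          simp; ring
        rw [hq]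
        refine ⟨mul_ne_zero S.hd0 hv, fun hh => S.hd ?_⟩
        have := hh.div (IsSquare.mul_self (Q v))
        rwa [show Q v * (S.d * Q v) / (Q v * Q v) = S.d by field_simp] at this
      · obtain ⟨s, t, hst⟩ := exists_binary S.h2 hv hp0 (S.d * Q w)
        refine ⟨s • v + t • p, w, by rw [map_add, map_smul, map_smul, hv1, hp], hw1, ?_⟩
        have hq : Q (s • v + t • p) = S.d * Q w := by
          rw [QuadraticMap.map_add Q, QuadraticMap.map_smul, QuadraticMap.map_smul, polar_smul_left,
            polar_smul_right, hpv, ← hst]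
          simp; ring
        rw [hq]
        refine ⟨mul_ne_zero S.hd0 hw, hw, fun hh => S.hd ?_⟩
        have := hh.div (IsSquare.mul_self (Q w))
        rwa [show S.d * Q w * Q w / (Q w * Q w) = S.d by field_simp] at this
    exact S.exists_commuting hv' hw' hns (Or.inl ⟨c, -(c : F), c.ne_zero, neg_ne_zero.2 c.ne_zero,
      by rw [hgv, hv'1], by rw [hgv, hw'1, smul_neg, neg_smul]⟩)
  · obtain ⟨v, hv, ho⟩ := exists_orth_image S.hQ S.h2 S.hn (S.mult_spec x) hgg hns
    have hqw : Q ((x.1 : Matrix ι ι F) *ᵥ v) = (S.mult x : F) * Q v := S.mult_spec x v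
    refine S.exists_commuting hv (by rw [hqw]; exact mul_ne_zero (Units.ne_zero _) hv) (fun hh => hns ?_)
      (Or.inr ⟨ho, rfl, S.mult x, Units.ne_zero _, ?_⟩)
    · rw [hqw] at hh
      have := hh.div (IsSquare.mul_self (Q v))
      rwa [show Q v * ((S.mult x : F) * Q v) / (Q v * Q v) = S.mult x by field_simp] at this
    · rw [Matrix.mulVec_mulVec, hgg, Matrix.smul_mulVec, Matrix.one_mulVec]

/-- For even `M` the centraliser consists of similarities with square multiplier. -/
theorem sq_of_commute_even (hM : Even S.M) {x y : ↥(Sim Q)} (hs : S.sgn x = -1) (hx : act Q (x * x) = 1)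
    (hy : Commute (act Q y) (act Q x)) : S.sq y = 1 := by
  rcases S.graph_normal_form hs hx with ⟨c, h, rfl, hh, hd⟩ | ⟨-, hodd, -⟩
  swap
  · exact absurd hM (Nat.not_even_iff_odd.2 hodd)
  rw [map_mul (act Q) (scalarS Q c), S.act_scalar (scalarS Q c) c rfl, one_mul] at hy
  obtain ⟨k, hk⟩ := S.act_eq_one (y := y * oS Q h * (oS Q h * y)⁻¹) (by
    rw [map_mul, map_inv, map_mul, map_mul, hy.eq, mul_inv_cancel])
  rw [mul_inv_eq_iff_eq_mul] at hk
  set L := app h
  set Y : (ι → F) →ₗ[F] (ι → F) := Matrix.mulVecLin (y.1 : Matrix ι ι F)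
  have hL : ∀ v, L (L v) = v := fun v => by rw [← app_mul, hh, app_one]
  have hYL : ∀ v, Y (L v) = (k : F) • L (Y v) := fun v => by
    have h1 := congrArg (fun z : ↥(Sim Q) => (z.1 : Matrix ι ι F) *ᵥ v) hk
    simp only [Subgroup.coe_mul, Units.val_mul, ← Matrix.mulVec_mulVec] at h1
    refine h1.trans ?_
    show Matrix.scalar ι (k : F) *ᵥ _ = _
    rw [Matrix.scalar_apply, ← Matrix.smul_one_eq_diagonal, Matrix.smul_mulVec, Matrix.one_mulVec]
    rfl
  have hYinj : Function.Injective Y := Matrix.mulVec_injective_of_isUnit ⟨y.1, rfl⟩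
  set U := LinearMap.ker (L - LinearMap.id) with hU
  set W := LinearMap.ker (L + LinearMap.id) with hW
  have memU : ∀ v, v ∈ U ↔ L v = v := fun v => by simp [U, sub_eq_zero]
  have memW : ∀ v, v ∈ W ↔ L v = -v := fun v => by simp [W, add_eq_zero_iff_eq_neg]
  have hsum : finrank F U + finrank F W = 2 * S.M := by
    rw [Submodule.finrank_add_eq_of_isCompl (isCompl_eigen S.h2 hL), Module.finrank_fintype_fun_eq_card, S.hM]
  have hdet : LinearMap.det L = ((detHom Q h : Fˣ) : F) := by
    show LinearMap.det (Matrix.toLin' ((h : GL ι F) : Matrix ι ι F)) = _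
    rw [LinearMap.det_toLin']; rfl
  have hWodd : Odd (finrank F W) := by
    rw [← Nat.not_even_iff_odd]
    intro he
    rw [det_of_involution S.h2 hL, he.neg_one_pow, hd, Units.val_neg, Units.val_one] at hdet
    exact S.h2 (by linear_combination hdet)
  have hUodd : Odd (finrank F U) := by
    obtain ⟨a, ha⟩ := hWodd
    rcases Nat.even_or_odd (finrank F U) with ⟨b, hb⟩ | hb
    · omega
    · exact hb
  have hkk : (k : F) * k = 1 := by
    obtain ⟨v, hv⟩ := CfsgLib.Orth.exists_anisotropic S.hQ (by have := S.hn; omega)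
    have hv0 : v ≠ 0 := fun e => hv (by rw [e, QuadraticMap.map_zero])
    have h1 := hYL (L v)
    rw [hL, hYL, map_smul, hL, smul_smul] at h1
    have hY0 : Y v ≠ 0 := fun e => hv0 (hYinj (e.trans (map_zero Y).symm))
    exact (smul_left_injective F hY0 ((one_smul F (Y v)).trans h1)).symm
  rcases mul_self_eq_one_iff.1 hkk with e | e
  · refine (sqSign_eq_one_iff _).2 (isSquare_of_odd U (fun a ha hperp => ?_) (Units.ne_zero _) Y
      (fun a ha => ?_) (fun a _ => S.mult_spec y a) hUodd)
    · refine S.hQ.1 a fun z => ?_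
      obtain ⟨p, hp, q, hq, rfl⟩ := Submodule.mem_sup.1
        ((isCompl_eigen S.h2 hL).sup_eq_top.ge (Submodule.mem_top : z ∈ _))
      show polar Q a (p + q) = 0
      rw [polar_add_right, hperp p hp, zero_add]
      have h1 := polar_app h a q
      rw [show app h a = a from (memU a).1 ha, show app h q = -q from (memW q).1 hq, polar_neg_right] at h1
      have : (2 : F) * polar Q a q = 0 := by linear_combination -h1
      exact (mul_eq_zero.1 this).resolve_left S.h2
    · rw [memU] at ha ⊢
      have h1 := hYL a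
      rw [ha, e, one_smul] at h1
      exact h1.symm
  · exfalso
    have hUW : U.map Y ≤ W := fun z hz => by
      obtain ⟨a, ha, rfl⟩ := Submodule.mem_map.1 hz
      rw [memU] at ha
      rw [memW]
      have h1 := hYL a
      rw [ha, e, neg_one_smul] at h1
      exact (neg_eq_iff_eq_neg.2 h1).symm
    have hWU : W.map Y ≤ U := fun z hz => by
      obtain ⟨a, ha, rfl⟩ := Submodule.mem_map.1 hz
      rw [memW] at ha
      rw [memU]
      have h1 := hYL a
      rw [ha, e, neg_one_smul, map_neg, neg_inj] at h1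
      exact h1.symm
    have h1 := Submodule.finrank_mono hUW
    have h2 := Submodule.finrank_mono hWU
    rw [← (Submodule.equivMapOfInjective Y hYinj U).finrank_eq] at h1
    rw [← (Submodule.equivMapOfInjective Y hYinj W).finrank_eq] at h2
    obtain ⟨a, ha⟩ := hWodd
    obtain ⟨b, hb⟩ := hM
    omega

/-- The square class on the quotient. -/
noncomputable def sqQ : ↥(Sim Q) ⧸ nrm Q →* ℤˣ :=
  QuotientGroup.lift (nrm Q) S.sq fun _ hx => congrArg Prod.fst (S.nrm_le hx)

theorem sqQ_qcl (x : ↥(Sim Q)) : S.sqQ (qcl Q x) = S.sq x := QuotientGroup.lift_mk' _ _ _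

theorem qcl_dl_comm : Commute (qcl Q S.dl) (S.ga * S.gb) := by
  have hd : Commute S.gd (S.ga * S.gb) := by
    show S.gd * (S.ga * S.gb) = S.ga * S.gb * S.gd
    have hb : S.gd * S.gb = S.ga * S.gd := by
      rw [← S.gd_conj, ← mul_assoc, ← mul_assoc, S.gd_sq, one_mul]
    calc S.gd * (S.ga * S.gb) = S.gd * (S.gb * S.ga) := by rw [S.gab_comm]
      _ = S.ga * (S.gd * S.ga) := by rw [← mul_assoc, hb, mul_assoc]
      _ = S.ga * (S.gb * S.gd) := by rw [← S.gd_conj, mul_assoc _ S.gd S.gd, S.gd_sq, mul_one]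
      _ = S.ga * S.gb * S.gd := (mul_assoc _ _ _).symm
  have ha : Commute S.ga (S.ga * S.gb) :=
    (Commute.refl S.ga).mul_right (show S.ga * S.gb = S.gb * S.ga from S.gab_comm)
  rw [S.qcl_dl]
  exact hd.mul_left (ha.pow_left _)

theorem sgn_ker_comm (p q : ↥(S.sgn.ker.map (qcl Q))) : p * q = q * p := by
  have hc := S.qcl_dl_comm
  have key : ∀ z ∈ S.sgn.ker.map (qcl Q),
      Commute z (qcl Q S.dl) ∧ Commute z (S.ga * S.gb) := by
    rintro _ ⟨x, hx, rfl⟩
    rcases S.qcl_sgn_one hx with e | e | e | e <;> rw [e]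
    · exact ⟨Commute.one_left _, Commute.one_left _⟩
    · exact ⟨hc.symm, Commute.refl _⟩
    · exact ⟨Commute.refl _, hc⟩
    · exact ⟨hc.symm.mul_left (Commute.refl _), (Commute.refl _).mul_left hc⟩
  obtain ⟨x, hx, hxe⟩ := q.2
  obtain ⟨k1, k2⟩ := key p.1 p.2
  refine Subtype.ext ?_
  show p.1 * q.1 = q.1 * p.1
  rw [← hxe]
  rcases S.qcl_sgn_one hx with e | e | e | e <;> rw [e]
  · exact (Commute.one_right _).eq
  · exact k2.eq
  · exact k1.eq
  · exact (k2.mul_right k1).eq

/-- The count for a graph involution. -/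
theorem graph_split {G : Subgroup (MulAut (Cfsg.POmega F ⇑Q))} (hG : G = S.sgn.ker.map (act Q))
    {x : ↥(Sim Q)} (hs : S.sgn x = -1) (hx : act Q x * act Q x = 1) :
    (Cfsg.splitClassCount G (Cfsg.Inn (Cfsg.POmega F ⇑Q)) (act Q x) = 1 ∨
      Cfsg.splitClassCount G (Cfsg.Inn (Cfsg.POmega F ⇑Q)) (act Q x) = 2) ∧
    ((negO Q ∈ Cfsg.Omega F ⇑Q ∨ Even S.M) →
      Cfsg.splitClassCount G (Cfsg.Inn (Cfsg.POmega F ⇑Q)) (act Q x) = 2) := by
  classical
  rw [← map_mul] at hx
  set H := S.sgn.ker
  let _ : CommGroup ↥(H.map (qcl Q)) := { mul_comm := S.sgn_ker_comm }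
  set d : ↥H →* ↥(H.map (qcl Q)) := (qcl Q).subgroupMap H
  have hd : Function.Surjective d := (qcl Q).subgroupMap_surjective H
  set f : ↥H →* MulAut (Cfsg.POmega F ⇑Q) := (act Q).comp H.subtype
  have hdker : ∀ y : ↥H, d y = 1 ↔ y.1 ∈ nrm Q := fun y => by
    rw [Subtype.ext_iff]; exact QuotientGroup.eq_one_iff _
  have hinn : Cfsg.Inn (Cfsg.POmega F ⇑Q) = ((⊥ : Subgroup _).comap d).map f := by
    ext β
    constructor
    · rintro ⟨z, rfl⟩
      obtain ⟨s, rfl⟩ := QuotientGroup.mk_surjective z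
      refine ⟨⟨oS Q (s : O Q), S.sgn_oS_of_det
        (MonoidHom.mem_ker.1 (Abelianization.commutator_subset_ker (detHom Q) s.2))⟩, ?_, ?_⟩
      · rw [SetLike.mem_coe, Subgroup.mem_comap, Subgroup.mem_bot, hdker, S.mem_nrm]
        exact ⟨1, s, by rw [map_one, one_mul]; rfl⟩
      · exact gAut_omegaIn s
    · rintro ⟨y, hy, rfl⟩
      rw [SetLike.mem_coe, Subgroup.mem_comap, Subgroup.mem_bot, hdker, ← S.act_mem_inn] at hy
      exact hy
  have hGf : G = f.range := by rw [hG, MonoidHom.range_comp, Subgroup.range_subtype]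
  rw [CfsgLib.Split.splitClassCount_eq_index f d hd ⊥ hGf hinn (act Q x), bot_sup_eq]
  set M0 := ((Subgroup.centralizer {act Q x}).comap f).map d
  set χ : ↥(H.map (qcl Q)) →* ℤˣ := S.sqQ.comp (H.map (qcl Q)).subtype
  have hχ : ∀ y : ↥H, χ (d y) = S.sq y.1 := fun y => S.sqQ_qcl y.1
  have hχs : Function.Surjective χ := fun t => by
    rcases Int.units_eq_one_or t with rfl | rfl
    · exact ⟨1, map_one χ⟩
    · exact ⟨d ⟨S.dl, S.sgn_dl⟩, (hχ _).trans S.sq_dl⟩
  have hidx : χ.ker.index = 2 := by
    rw [Subgroup.index_ker, MonoidHom.range_eq_top.2 hχs, Subgroup.card_top]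
    simp
  obtain ⟨y, hy1, hy2, hy3⟩ := S.exists_commuting_ab hs hx
  have hle : χ.ker ≤ M0 := by
    intro z hz
    obtain ⟨w, rfl⟩ := hd z
    rw [MonoidHom.mem_ker, hχ] at hz
    rcases S.qcl_inv_one (Prod.ext hz w.2) with e | e
    · rw [show d w = 1 from Subtype.ext e]; exact one_mem _
    · refine ⟨⟨y, hy1⟩, ?_, Subtype.ext (hy2.trans e.symm)⟩
      refine Subgroup.mem_comap.2 (Subgroup.mem_centralizer_singleton_iff.2 ?_)
      show act Q y * act Q x = act Q x * act Q y
      rw [← map_mul, ← map_mul, hy3.eq]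
  refine ⟨?_, fun hcond => ?_⟩
  · have h := Subgroup.index_dvd_of_le hle
    rw [hidx] at h
    exact (Nat.dvd_prime Nat.prime_two).1 h
  · rw [show M0 = χ.ker from le_antisymm ?_ hle, hidx]
    rintro _ ⟨w, hw, rfl⟩
    rw [MonoidHom.mem_ker, hχ]
    have hcw : Commute (act Q w.1) (act Q x) := Subgroup.mem_centralizer_singleton_iff.1 hw
    by_cases hP : negO Q ∈ Cfsg.Omega F ⇑Q
    · by_contra hsq
      have hq : qcl Q w.1 * qcl Q x = qcl Q x * qcl Q w.1 := by
        rw [← map_mul, ← map_mul, QuotientGroup.mk'_apply, QuotientGroup.mk'_apply, QuotientGroup.eq,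
          ← S.act_mem_inn, map_mul, map_inv, map_mul, map_mul, hcw.eq, inv_mul_cancel]
        exact one_mem _
      have hxa : x * oS Q S.rA ∈ H := by
        show S.sgn _ = 1
        rw [map_mul, hs, S.sgn_rA]; simp
      have hcomm : Commute (qcl Q w.1) (qcl Q x * S.ga) := by
        have h1 := congrArg Subtype.val (S.sgn_ker_comm (d w) (d ⟨_, hxa⟩))
        have h2 : qcl Q w.1 * qcl Q (x * oS Q S.rA) = qcl Q (x * oS Q S.rA) * qcl Q w.1 := h1
        rw [map_mul] at h2
        exact h2
      have hwa : Commute (qcl Q w.1) S.ga := by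
        have h1 : Commute (qcl Q w.1) (qcl Q x) := hq
        have := h1.inv_right.mul_right hcomm
        rwa [inv_mul_cancel_left] at this
      have hdla : Commute (qcl Q S.dl) S.ga := by
        have hta : Commute (S.ga * S.gb) S.ga :=
          (Commute.refl S.ga).mul_left (show S.gb * S.ga = S.ga * S.gb from S.gab_comm.symm)
        rcases S.qcl_sgn_one w.2 with e | e | e | e
        · exact absurd (by rw [← S.sqQ_qcl, e, map_one]) hsq
        · refine absurd ?_ hsq
          rw [← S.sqQ_qcl, e, map_mul, ga, gb, S.sqQ_qcl, S.sqQ_qcl, S.sq_oS, S.sq_oS, mul_one]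
        · rwa [e] at hwa
        · rw [e] at hwa
          have := hta.inv_left.mul_left hwa
          rwa [inv_mul_cancel_left] at this
      have hda : Commute S.gd S.ga := by
        have := hdla.mul_left ((Commute.refl S.ga).pow_left S.M).inv_left
        rwa [S.qcl_dl, mul_inv_cancel_right] at this
      have hb : S.gb = S.ga := by
        rw [← S.gd_conj, hda.eq, mul_assoc, S.gd_sq, mul_one]
      have ht : S.ga * S.gb = 1 := by rw [hb, S.ga_sq]
      exact (S.gab_eq_one_iff.1 ht) hP
    · exact S.sq_of_commute_even (hcond.resolve_left hP) hs hx hcw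

end SimData

end CfsgLib.POmegaSim
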