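import Cfsg.Agent.Lib.POmegaSim.Graph
import Cfsg.Agent.Lib.POmegaSim.Inndiag

/-!
Graph involutions of the groups of plus and minus type come from similarities.
-/

set_option autoImplicit false
set_option linter.unusedSectionVars false

namespace CfsgLib.POmegaSim

open Matrix QuadraticMap CfsgLib.Orth Cfsg.Agent.GammaO57 Cfsg.Agent.Spinor57

universe u

variable {F : Type u} [Field F] [Fintype F]

/-- The count for an automorphism induced by a similarity outside the class-preserving ones. -/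
theorem graph_split' {ι : Type} [Fintype ι] [DecidableEq ι] {Q : QuadraticForm F (ι → F)} (S : SimData Q)
    {Qf : (ι → F) → F} (hQf : ⇑Q = Qf) (P : GL ι F → Prop) (hP : ∀ x : ↥(Sim Q), P x.1 ↔ S.sgn x = 1)
    (A : Subgroup (MulAut (Cfsg.POmega F Qf)))
    (hA : A = Cfsg.autSubgroupOf (fun β : Cfsg.POmega F Qf ≃* Cfsg.POmega F Qf =>
      ∃ g : GL ι F, g ∈ Cfsg.Geo.quadSimilarityGroup (F := F) Qf ∧ P g ∧
        Cfsg.IsInducedBySemilinearPOmega Qf g (RingEquiv.refl F) β))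
    {γ : MulAut (Cfsg.POmega F Qf)}
    (hγ : ∃ g : GL ι F, g ∈ Cfsg.Geo.quadSimilarityGroup (F := F) Qf ∧ ¬ P g ∧
      Cfsg.IsInducedBySemilinearPOmega Qf g (RingEquiv.refl F) γ)
    (hγ2 : γ * γ = 1) :
    (Cfsg.splitClassCount A (Cfsg.Inn (Cfsg.POmega F Qf)) γ = 1 ∨
      Cfsg.splitClassCount A (Cfsg.Inn (Cfsg.POmega F Qf)) γ = 2) ∧
    ((SimData.negO Q ∈ Cfsg.Omega F ⇑Q ∨ Even S.M) →
      Cfsg.splitClassCount A (Cfsg.Inn (Cfsg.POmega F Qf)) γ = 2) := by
  subst hQf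
  obtain ⟨g, hg, hn, hind⟩ := hγ
  obtain rfl := induced_unique ⟨g, hg⟩ hind
  have hs : S.sgn ⟨g, hg⟩ = -1 :=
    (Int.units_eq_one_or _).resolve_left fun h => hn ((hP ⟨g, hg⟩).2 h)
  refine S.graph_split ?_ hs hγ2
  rw [hA, ← autSubgroup_eq S.sgn.ker (fun g => g ∈ Sim Q ∧ P g)
    (fun g => ⟨fun ⟨h, hp⟩ => ⟨h, (hP ⟨g, h⟩).1 hp⟩, fun ⟨h, hk⟩ => ⟨h, (hP ⟨g, h⟩).2 hk⟩⟩)]
  simp only [and_assoc]

/-- An involution in the semisimilarity image of minus type is induced by a similarity. -/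
theorem exists_similarity_of_involution {k : ℕ} (hk : 2 ≤ k) (h2 : (2 : F) ≠ 0) {a b : F}
    (hab : ∀ z₁ z₂ : F, z₁ ^ 2 + a * z₁ * z₂ + b * z₂ ^ 2 = 0 → z₁ = 0 ∧ z₂ = 0)
    {γ : MulAut (Cfsg.POmega F ⇑(minusQ k F a b))}
    (hγ : γ ∈ Cfsg.gammaPOmega F ⇑(minusQ k F a b)) (hγ2 : γ * γ = 1) :
    ∃ x : ↥(Sim (minusQ k F a b)), act (minusQ k F a b) x = γ := by
  classical
  set Q := minusQ k F a b
  obtain ⟨x, rfl⟩ := gammaPOmega_le_range hγ
  rw [← map_mul] at hγ2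
  obtain ⟨hright, c, hc⟩ := gAut_eq_one (minusQ_nondegenerate h2 hab) (by simp; omega) (minusData hk a b) hγ2
  by_cases hσ : x.1.right = 1
  · obtain ⟨cc, hcc⟩ := x.2
    have hsim : x.1.left ∈ Sim Q := ⟨cc, fun v => by
      have h := hcc v
      rw [semi, hσ] at h
      exact h⟩
    refine ⟨⟨_, hsim⟩, ?_⟩
    show gAut Q (emb Q ⟨_, hsim⟩) = gAut Q x
    exact congrArg _ (Subtype.ext (SemidirectProduct.ext rfl hσ.symm))
  exfalso
  obtain ⟨p, hp⟩ := CharP.exists F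
  obtain ⟨n, hp', hF⟩ := FiniteField.card F p
  have : Fact p.Prime := ⟨hp'⟩
  set f : ℕ := (n : ℕ)
  have hf : f ≠ 0 := n.ne_zero
  have hff : frobeniusEquiv F p ^ f = 1 := RingEquiv.ext fun z => by
    rw [frobP_apply, ← hF, FiniteField.pow_card]; rfl
  obtain ⟨i0, hi0⟩ := frobP_surjective hF x.1.right
  obtain ⟨i, hif, hi⟩ : ∃ i < f, x.1.right = frobeniusEquiv F p ^ i := by
    refine ⟨i0 % f, Nat.mod_lt _ (Nat.pos_of_ne_zero hf), ?_⟩
    rw [hi0]
    conv_lhs => rw [← Nat.mod_add_div i0 f, pow_add, pow_mul, hff, one_pow, mul_one]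
  have hi00 : i ≠ 0 := fun h => hσ (by rw [hi, h, pow_zero])
  have h2i : i + i = f := by
    have h1 : x.1.right * x.1.right = 1 := hright
    rw [hi, ← pow_add] at h1
    obtain ⟨t, ht⟩ := frobP_dvd hF hf h1
    rcases t with _ | _ | t
    · omega
    · omega
    · have : f * 2 ≤ f * (t + 1 + 1) := Nat.mul_le_mul_left _ (by omega)
      omega
  have hp2 : p ≠ 2 := by
    rintro rfl
    exact h2 (CharP.cast_eq_zero F 2)
  obtain ⟨s, hs⟩ : Odd (p ^ i) := (hp'.odd_of_ne_two hp2).pow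
  have hq : Fintype.card F = (2 * s + 1) * (2 * s + 1) := by
    rw [hF, ← hs, ← pow_add, h2i]
  set δ := a ^ 2 - 4 * b
  have hδ := not_isSquare_delta h2 hab
  have hδ0 : δ ≠ 0 := fun h => hδ (show IsSquare δ from h ▸ IsSquare.zero)
  have hσapp : ∀ z, x.1.right z = z ^ p ^ i := fun z => by rw [hi, frobP_apply]
  obtain ⟨φ, hφr, hφm, hφd⟩ := exists_field_elem (k := k) (a := a) (b := b) h2 x.1.right
    (r := δ ^ s) (pow_ne_zero _ hδ0) (by
      rw [← pow_mul, ← pow_succ, mul_comm s 2, hσapp, hs])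
  set y := x * φ⁻¹
  have hy1 : y.1.right = 1 := by
    show x.1.right * φ.1.right⁻¹ = 1
    rw [hφr, mul_inv_cancel]
  have hyl : ((wInv y).left : F) * (wInv y).left = 1 := by
    have hsq : ((GeneralLinearGroup.det y.1.left : Fˣ) : F) ^ 2 = (mu y) ^ Fintype.card (MI k) :=
      det_sq_of_similitude (minusQ_nondegenerate h2 hab) (c := mu y) fun v => by
        have := mu_spec y v
        rw [semi, hy1] at this
        exact this
    show ((GeneralLinearGroup.det y.1.left * ((Units.mk0 (mu y) (mu_ne y)) ^ (k + 1))⁻¹ : Fˣ) : F) *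
      ((GeneralLinearGroup.det y.1.left * ((Units.mk0 (mu y) (mu_ne y)) ^ (k + 1))⁻¹ : Fˣ) : F) = 1
    rw [Units.val_mul, Units.val_inv_eq_inv_val, Units.val_pow_eq_pow_val, Units.val_mk0,
      mul_mul_mul_comm, ← pow_two, hsq, show Fintype.card (MI k) = (k + 1) + (k + 1) by simp; ring,
      pow_add, ← mul_inv, mul_inv_cancel₀ (mul_ne_zero (pow_ne_zero _ (mu_ne y)) (pow_ne_zero _ (mu_ne y)))]
  have hwx : ((wInv x).left : F) = ((wInv y).left : F) * δ ^ s := by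
    have h1 : wInv x = wInv y * wInv φ := by rw [← map_mul, inv_mul_cancel_right]
    rw [h1, SemidirectProduct.mul_left, Units.val_mul]
    congr 1
    show (y.1.right) ((wInv φ).left : F) = _
    rw [hy1]
    show ((GeneralLinearGroup.det φ.1.left * ((Units.mk0 (mu φ) (mu_ne φ)) ^ (k + 1))⁻¹ : Fˣ) : F) = _
    simp [hφm, hφd]
  have hone : ((wInv (x * x)).left : F) = 1 := by
    have hr : (x * x).1.right = 1 := hright
    have hm : mu (x * x) = (c : F) * c := by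
      show Q (semi (x * x).1 (eM k F)) = _
      rw [semi, hr, hc]
      show Q (Matrix.scalar (MI k) (c : F) *ᵥ eM k F) = _
      rw [Matrix.scalar_apply, ← Matrix.smul_one_eq_diagonal, smul_mulVec, one_mulVec, QuadraticMap.map_smul,
        minusQ_eM, smul_eq_mul, mul_one]
    show ((GeneralLinearGroup.det (x * x).1.left *
      ((Units.mk0 (mu (x * x)) (mu_ne _)) ^ (k + 1))⁻¹ : Fˣ) : F) = 1
    rw [hc, Units.val_mul, Units.val_inv_eq_inv_val, Units.val_pow_eq_pow_val, Units.val_mk0, hm]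
    show (Matrix.scalar (MI k) (c : F)).det * _ = 1
    rw [Matrix.scalar_apply, det_diagonal, Finset.prod_const, Finset.card_univ,
      show Fintype.card (MI k) = 2 * (k + 1) by simp; ring, pow_mul, pow_two,
      mul_inv_cancel₀ (pow_ne_zero _ (mul_ne_zero c.ne_zero c.ne_zero))]
  rw [map_mul, SemidirectProduct.mul_left, Units.val_mul] at hone
  have hone' : ((wInv x).left : F) * x.1.right ((wInv x).left : F) = 1 := hone
  have hodd : Odd (p ^ i) := ⟨s, hs⟩
  rw [hσapp, hwx, mul_pow] at hone'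
  have he : ((wInv y).left : F) * ((wInv y).left : F) ^ p ^ i = 1 := by
    rw [hs, pow_succ, pow_mul, pow_two, hyl, one_pow, one_mul, hyl]
  have hδe : δ ^ s * (δ ^ s) ^ p ^ i = -1 := by
    have hchar : ringChar F ≠ 2 := by rw [ringChar.eq F p]; exact hp2
    have he2 : s + s * p ^ i = Fintype.card F / 2 := by
      rw [hq, hs]
      have : (2 * s + 1) * (2 * s + 1) = 2 * (s + s * (2 * s + 1)) + 1 := by ring
      omega
    rw [← pow_mul, ← pow_add, he2]
    rcases FiniteField.pow_dichotomy hchar hδ0 with h | h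
    · exact absurd ((FiniteField.isSquare_iff hchar hδ0).2 h) hδ
    · exact h
  rw [mul_mul_mul_comm, he, hδe, one_mul] at hone'
  exact h2 (by linear_combination -hone')

/-- The count for a graph involution of minus type. -/
theorem graph_split_minus {k : ℕ} (hk : 3 ≤ k) (h2 : (2 : F) ≠ 0) {a b : F}
    (hab : ∀ z₁ z₂ : F, z₁ ^ 2 + a * z₁ * z₂ + b * z₂ ^ 2 = 0 → z₁ = 0 ∧ z₂ = 0)
    {Qf : (MI k → F) → F} (hQf : ⇑(minusQ k F a b) = Qf) (A : Subgroup (MulAut (Cfsg.POmega F Qf)))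
    (hA : A = Cfsg.autSubgroupOf (fun β : Cfsg.POmega F Qf ≃* Cfsg.POmega F Qf =>
      ∃ g : GL (MI k) F, g ∈ Cfsg.Geo.quadSimilarityGroup (F := F) Qf ∧
        Cfsg.PreservesSingularClassesMinus k a b (g : Matrix (MI k) (MI k) F) ∧
        Cfsg.IsInducedBySemilinearPOmega Qf g (RingEquiv.refl F) β))
    {γ : MulAut (Cfsg.POmega F Qf)} (hγ : γ ∈ Cfsg.gammaPOmega F Qf) (hnot : γ ∉ A) (hγ2 : γ * γ = 1) :
    (Cfsg.splitClassCount A (Cfsg.Inn (Cfsg.POmega F Qf)) γ = 1 ∨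
      Cfsg.splitClassCount A (Cfsg.Inn (Cfsg.POmega F Qf)) γ = 2) ∧
    ((SimData.negO (minusQ k F a b) ∈ Cfsg.Omega F ⇑(minusQ k F a b) ∨ Odd k) →
      Cfsg.splitClassCount A (Cfsg.Inn (Cfsg.POmega F Qf)) γ = 2) := by
  subst hQf
  obtain ⟨x, rfl⟩ := exists_similarity_of_involution (by omega) h2 hab hγ hγ2
  have h := graph_split' (minusSim hk h2 hab) rfl
    (fun g => Cfsg.PreservesSingularClassesMinus k a b (g : Matrix (MI k) (MI k) F))
    (fun y => minus_preserves hk h2 hab y) A hA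
    ⟨x.1, x.2, fun hp => hnot (hA ▸ Subgroup.subset_closure ⟨x.1, x.2, hp, act_induced x⟩), act_induced x⟩ hγ2
  exact ⟨h.1, fun hh => h.2 (hh.imp id fun ho => ho.add_one)⟩

end CfsgLib.POmegaSim
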