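import Cfsg.Agent.Lib.POmegaSim.Structure
import Cfsg.Agent.S0752
import Cfsg.Agent.S1924

/-!
Extension of isometries from a nondegenerate subspace, determinants of similitudes of alternating forms,
elements of maximal two-power order in abelian groups with a unique involution.
-/

set_option autoImplicit false
set_option linter.unusedSectionVars false

namespace CfsgLib.POmegaSim

open Matrix QuadraticMap CfsgLib.Orth
open LinearMap (BilinForm)

variable {F : Type*} [Field F] {ι κ : Type} [Fintype ι] [DecidableEq ι] [Fintype κ] [DecidableEq κ]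

section Extend

variable {Q : QuadraticForm F (ι → F)} (L : (κ → F) →ₗ[F] (ι → F))
  (hL : (Q.comp L).polarBilin.Nondegenerate)

theorem polar_comp (a b : κ → F) : polar (Q.comp L) a b = polar Q (L a) (L b) := by
  simp [QuadraticMap.polar]

/-- The orthogonal projection to the coordinates of the subspace. -/
noncomputable def subProj : (ι → F) →ₗ[F] (κ → F) :=
  (LinearMap.BilinForm.toDual (Q.comp L).polarBilin hL).symm.toLinearMap ∘ₗ L.dualMap ∘ₗ Q.polarBilin

theorem polar_subProj (v : ι → F) (b : κ → F) :
    polar (Q.comp L) (subProj L hL v) b = polar Q v (L b) := by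
  have h := LinearMap.BilinForm.apply_toDual_symm_apply (hB := hL) (L.dualMap (Q.polarBilin v)) b
  exact h

theorem subProj_apply_sub (a : κ → F) : subProj L hL (L a) = a := by
  refine sub_eq_zero.1 (hL.1 _ fun b => ?_)
  show polar (Q.comp L) _ b = 0
  rw [polar_sub_left, polar_subProj, polar_comp, sub_self]

/-- The extension of a map by the identity on the orthogonal complement. -/
noncomputable def extMap (f : (κ → F) →ₗ[F] (κ → F)) : (ι → F) →ₗ[F] (ι → F) :=
  LinearMap.id + L ∘ₗ (f - LinearMap.id) ∘ₗ subProj L hL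

theorem extMap_apply (f : (κ → F) →ₗ[F] (κ → F)) (v : ι → F) :
    extMap L hL f v = v + L (f (subProj L hL v) - subProj L hL v) := rfl

theorem extMap_comp (f f' : (κ → F) →ₗ[F] (κ → F)) :
    extMap L hL f ∘ₗ extMap L hL f' = extMap L hL (f ∘ₗ f') := by
  refine LinearMap.ext fun v => ?_
  rw [LinearMap.comp_apply]
  simp only [extMap_apply, map_add, map_sub, subProj_apply_sub, LinearMap.comp_apply]
  abel

theorem extMap_id : extMap L hL LinearMap.id = LinearMap.id :=
  LinearMap.ext fun v => by simp [extMap_apply]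

theorem Q_extMap (f : (κ → F) →ₗ[F] (κ → F)) (hf : ∀ a, Q.comp L (f a) = Q.comp L a) (v : ι → F) :
    Q (extMap L hL f v) = Q v := by
  set a := subProj L hL v with ha
  have h1 : Q (extMap L hL f v) = Q v + (Q.comp L (a + (f a - a)) - Q.comp L a) := by
    rw [extMap_apply, QuadraticMap.map_add Q, QuadraticMap.map_add (Q.comp L) a (f a - a), polar_subProj]
    simp only [QuadraticMap.comp_apply, ← ha]
    ring
  rw [h1, add_sub_cancel, hf, sub_self, add_zero]

/-- The extension of an isometry. -/
noncomputable def extFun (g : O (Q.comp L)) : O Q :=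
  mkO (extMap L hL (app g)) (extMap L hL (app g⁻¹))
    (by rw [extMap_comp, show app g ∘ₗ app g⁻¹ = LinearMap.id from LinearMap.ext (app_app_inv g), extMap_id])
    (by rw [extMap_comp, show app g⁻¹ ∘ₗ app g = LinearMap.id from LinearMap.ext (app_inv_app g), extMap_id])
    (Q_extMap L hL _ fun a => Q_app g a)

theorem app_extFun (g : O (Q.comp L)) (v : ι → F) : app (extFun L hL g) v = extMap L hL (app g) v := by
  rw [extFun, app_mkO]

/-- The extension homomorphism. -/
noncomputable def extO : O (Q.comp L) →* O Q where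
  toFun := extFun L hL
  map_one' := ext_app fun v => by
    rw [app_extFun, app_one, show app (1 : O (Q.comp L)) = LinearMap.id from LinearMap.ext app_one, extMap_id]
    rfl
  map_mul' g h := ext_app fun v => by
    rw [app_mul, app_extFun, app_extFun, app_extFun, ← LinearMap.comp_apply (extMap L hL (app g)), extMap_comp,
      show app g ∘ₗ app h = app (g * h) from LinearMap.ext fun a => (app_mul g h a).symm]

theorem app_extO (g : O (Q.comp L)) (v : ι → F) :
    app (extO L hL g) v = v + L (app g (subProj L hL v) - subProj L hL v) :=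
  app_extFun L hL g v

theorem reflMap_extO : CfsgLib.OrthOmega.ReflMap (extO L hL) L := fun a _ => by
  refine ⟨rfl, ext_app fun v => ?_⟩
  rw [app_extO, app_refl, app_refl, polar_subProj, QuadraticMap.comp_apply, sub_sub_cancel_left, map_neg,
    map_smul, sub_eq_add_neg]

/-- An extension commutes with an isometry stabilising the subspace and commuting there. -/
theorem extO_commute (g : O (Q.comp L)) (s : O Q) (σ : (κ → F) →ₗ[F] (κ → F))
    (hs : ∀ a, app s (L a) = L (σ a)) (hg : ∀ a, app g (σ a) = σ (app g a)) : Commute (extO L hL g) s := by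
  refine ext_app fun v => ?_
  have hp : subProj L hL (app s v) = σ (subProj L hL v) := by
    have hinj : Function.Injective L := Function.LeftInverse.injective (subProj_apply_sub L hL)
    have hσi : Function.Injective σ := fun a b h => hinj (app_injective s (by rw [hs, hs, h]))
    have hσs : Function.Surjective σ := LinearMap.surjective_of_injective hσi
    refine sub_eq_zero.1 (hL.1 _ fun b => ?_)
    obtain ⟨b, rfl⟩ := hσs b
    show polar (Q.comp L) _ (σ b) = 0
    rw [polar_sub_left, polar_subProj, polar_comp, ← hs, ← hs, polar_app, polar_app, ← polar_comp,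
      polar_subProj, sub_self]
  rw [app_mul, app_mul, app_extO, app_extO, hp, hg, map_add, hs]
  simp only [map_sub]

end Extend

section Symplectic

/-- The determinant of a similitude of a nondegenerate alternating form. -/
theorem det_alt_similitude {V : Type*} [AddCommGroup V] [Module F V] [FiniteDimensional F V]
    (B : BilinForm F V) (hA : B.IsAlt) (hB : LinearMap.SeparatingLeft B) (f : V →ₗ[F] V) {μ : F} (hμ : μ ≠ 0)
    (hf : ∀ u v, B (f u) (f v) = μ * B u v) {M : ℕ} (hM : Module.finrank F V = 2 * M) :
    LinearMap.det f = μ ^ M := by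
  classical
  obtain ⟨k, r, b, h1, h2, h3, h4⟩ := Cfsg.Agent.S0752.result B hA
  rcases Nat.eq_zero_or_pos r with rfl | hr
  swap
  · exact absurd (hB _ (h4 ⟨0, hr⟩)) (b.ne_zero _)
  set c := b.reindex (Equiv.sumEmpty (Fin k ⊕ Fin k) (Fin 0))
  have hkM : k = M := by
    have := Module.finrank_eq_card_basis c
    simp at this
    omega
  subst hkM
  have hG : LinearMap.BilinForm.toMatrix c B = -Matrix.J (Fin k) F := by
    ext i j
    rw [LinearMap.BilinForm.toMatrix_apply, Module.Basis.reindex_apply, Module.Basis.reindex_apply,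
      Equiv.sumEmpty_symm_apply, Equiv.sumEmpty_symm_apply, Matrix.neg_apply]
    rcases i with i | i <;> rcases j with j | j
    · simpa [Matrix.J] using h2 i j
    · simpa [Matrix.J, Matrix.one_apply] using h1 i j
    · rw [show B (b (Sum.inl (Sum.inr i))) (b (Sum.inl (Sum.inl j))) = -B (b (Sum.inl (Sum.inl j))) (b (Sum.inl (Sum.inr i))) from
        (LinearMap.BilinForm.IsAlt.neg_eq hA _ _).symm]
      simp [Matrix.J, h1, Matrix.one_apply, eq_comm]
    · simpa [Matrix.J] using h3 i j
  set M := LinearMap.toMatrix c c f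
  have hM' : Mᵀ * Matrix.J (Fin k) F * M = μ • Matrix.J (Fin k) F := by
    have h := LinearMap.BilinForm.toMatrix_comp c c (B := B) f f
    rw [show B.comp f f = μ • B from LinearMap.ext fun u => LinearMap.ext fun v => hf u v, map_smul, hG] at h
    simpa using h.symm
  set D : Matrix (Fin k ⊕ Fin k) (Fin k ⊕ Fin k) F := fromBlocks (μ⁻¹ • 1) 0 0 1
  have hD : Dᵀ * Matrix.J (Fin k) F * D = μ⁻¹ • Matrix.J (Fin k) F := by
    simp [D, Matrix.J, fromBlocks_transpose, fromBlocks_multiply, fromBlocks_smul]
  have hmem : M * D ∈ Matrix.symplecticGroup (Fin k) F := by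
    rw [SymplecticGroup.mem_iff', transpose_mul]
    calc Dᵀ * Mᵀ * Matrix.J (Fin k) F * (M * D) = Dᵀ * (Mᵀ * Matrix.J (Fin k) F * M) * D := by
          simp only [mul_assoc]
      _ = Matrix.J (Fin k) F := by
          rw [hM', mul_smul_comm, smul_mul_assoc, hD, smul_smul, mul_inv_cancel₀ hμ, one_smul]
  have hd := SymplecticGroup.det_eq_one hmem
  rw [det_mul, det_fromBlocks_zero₂₁, det_smul, det_one, mul_one, mul_one, Fintype.card_fin, inv_pow,
    mul_inv_eq_one₀ (pow_ne_zero _ hμ)] at hd
  rw [← LinearMap.det_toMatrix c]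
  exact hd

end Symplectic

section Abelian

/-- In a finite abelian group with a unique involution some element of two-power order powers to it and
has odd index. -/
theorem exists_max_two_power {C : Type*} [CommGroup C] [Finite C] {n : C} (hn : n ≠ 1) (hn2 : n * n = 1)
    (huniq : ∀ a : C, a * a = 1 → a = 1 ∨ a = n) :
    ∃ (u : C) (k m : ℕ), Odd m ∧ Nat.card C = 2 ^ (k + 1) * m ∧ u ^ 2 ^ (k + 1) = 1 ∧ u ^ 2 ^ k = n := by
  classical
  let _ := Fintype.ofFinite C
  have hbound : ∀ j, (Finset.univ.filter fun a : C => a ^ 2 ^ j = 1).card ≤ 2 ^ j := by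
    intro j
    induction j with
    | zero =>
      refine Finset.card_le_one.2 fun a ha b hb => ?_
      simp at ha hb
      rw [ha, hb]
    | succ j ih =>
      have h := Finset.card_le_mul_card_image (f := fun a : C => a * a)
        (Finset.univ.filter fun a : C => a ^ 2 ^ (j + 1) = 1) 2 fun b hb => ?_
      · refine h.trans ?_
        rw [pow_succ' 2 j]
        refine Nat.mul_le_mul_left 2 (le_trans (Finset.card_le_card ?_) ih)
        intro b hb
        obtain ⟨a, ha, rfl⟩ := Finset.mem_image.1 hb
        simp only [Finset.mem_filter, Finset.mem_univ, true_and] at ha ⊢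
        rw [← pow_two, ← pow_mul, ha]
      · obtain ⟨a, -, rfl⟩ := Finset.mem_image.1 hb
        refine (Finset.card_le_card (t := {a, a * n}) fun x hx => ?_).trans Finset.card_le_two
        simp only [Finset.mem_filter] at hx
        rcases huniq (x * a⁻¹) (by rw [mul_mul_mul_comm, hx.2, ← _root_.mul_inv, mul_inv_cancel]) with e | e
        · simp [mul_inv_eq_one.1 e]
        · simp [mul_inv_eq_iff_eq_mul.1 e, mul_comm]
  obtain ⟨P⟩ : Nonempty (Sylow 2 C) := inferInstance
  have hfact : Fact (Nat.Prime 2) := ⟨Nat.prime_two⟩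
  have hcard : Nat.card P = 2 ^ (Nat.card C).factorization 2 := P.card_eq_multiplicity
  have hdvd : 2 ∣ Nat.card C := by
    rw [← (orderOf_eq_prime (by rw [pow_two, hn2]) hn : orderOf n = 2)]
    exact orderOf_dvd_natCard n
  have h0 : (Nat.card C).factorization 2 ≠ 0 := by
    have := (Nat.Prime.dvd_iff_one_le_factorization Nat.prime_two Nat.card_pos.ne').1 hdvd
    omega
  obtain ⟨k, hk⟩ : ∃ k, (Nat.card C).factorization 2 = k + 1 := ⟨_, (Nat.succ_pred_eq_of_ne_zero h0).symm⟩
  have hP : ∀ a : C, a ∈ (P : Subgroup C) → a ^ 2 ^ (k + 1) = 1 := fun a ha => by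
    have h := pow_card_eq_one' (x := (⟨a, ha⟩ : ↥(P : Subgroup C)))
    rw [hcard, hk] at h
    exact congrArg Subtype.val h
  obtain ⟨u, hu, hu'⟩ : ∃ u ∈ (P : Subgroup C), u ^ 2 ^ k ≠ 1 := by
    by_contra hc
    push Not at hc
    have h1 : Fintype.card P ≤ (Finset.univ.filter fun a : C => a ^ 2 ^ k = 1).card := by
      rw [← Fintype.card_coe]
      exact Fintype.card_le_of_injective (fun a => ⟨a.1, by simpa using hc a.1 a.2⟩)
        fun a b h => Subtype.ext (congrArg (fun z : ↥(_ : Finset C) => z.1) h)
    have h2 := h1.trans (hbound k)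
    rw [← Nat.card_eq_fintype_card, hcard, hk, Nat.pow_succ'] at h2
    have := Nat.two_pow_pos k
    omega
  refine ⟨u, k, Nat.card C / 2 ^ (k + 1), ?_, ?_, hP u hu, ?_⟩
  · rw [← hk, ← Nat.not_even_iff_odd, even_iff_two_dvd]
    exact Nat.not_dvd_ordCompl Nat.prime_two Nat.card_pos.ne'
  · rw [← hk, Nat.ordProj_mul_ordCompl_eq_self]
  · refine (huniq _ ?_).resolve_left hu'
    rw [← pow_add, ← two_mul, ← pow_succ', hP u hu]

end Abelian

end CfsgLib.POmegaSim
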