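import Cfsg.Agent.Lib.POmegaSim.Structure
import Cfsg.Agent.Helper57OutMinusOdd

/-!
The standard forms of plus and minus type as data for the conformal quotients.
-/

set_option autoImplicit false
set_option linter.unusedSectionVars false

namespace CfsgLib.POmegaSim

open Matrix QuadraticMap CfsgLib.Orth Cfsg.Agent.GammaO57 Cfsg.Agent.Spinor57

variable {F : Type*} [Field F] [Fintype F]

/-- `(x, y) ↦ (d y, x)`. -/
def swapMat (m : ℕ) (d : F) : Matrix (Fin m ⊕ Fin m) (Fin m ⊕ Fin m) F :=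
  fromBlocks 0 (d • (1 : Matrix (Fin m) (Fin m) F)) 1 0

theorem swapMat_mulVec {m : ℕ} (d : F) (v : Fin m ⊕ Fin m → F) :
    swapMat m d *ᵥ v = Sum.elim (fun i => d * v (.inr i)) (fun i => v (.inl i)) := by
  rw [swapMat, fromBlocks_mulVec]
  funext i
  rcases i with i | i <;> simp [smul_mulVec]

theorem swapMat_sq {m : ℕ} (d : F) : swapMat m d * swapMat m d = d • 1 := by
  rw [swapMat, fromBlocks_multiply, ← fromBlocks_one, fromBlocks_smul]
  simp

theorem det_swapMat (m : ℕ) (d : F) : (swapMat m d).det = (-1) ^ m * d ^ m := by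
  have h1 : swapMat m d * fromBlocks 1 0 0 (1 : Matrix (Fin m) (Fin m) F) = swapMat m d := by
    rw [fromBlocks_one, mul_one]
  have h2 : swapMat m d =
      fromBlocks (d • (1 : Matrix (Fin m) (Fin m) F)) 0 0 1 * fromBlocks 0 1 1 0 := by
    rw [swapMat, fromBlocks_multiply]
    simp
  have h3 : (fromBlocks 0 1 1 0 : Matrix (Fin m ⊕ Fin m) (Fin m ⊕ Fin m) F) * fromBlocks 1 0 1 1 =
      fromBlocks 1 1 1 0 := by
    rw [fromBlocks_multiply]
    simp
  have h4 := congrArg Matrix.det h3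
  rw [det_mul, det_fromBlocks_zero₁₂, det_fromBlocks_one₁₁, det_one, one_mul, mul_one, mul_one] at h4
  rw [h2, det_mul, h4, det_fromBlocks_zero₁₂, det_smul, det_one, Fintype.card_fin, mul_one, mul_one,
    zero_sub, det_neg, det_one, mul_one, Fintype.card_fin, mul_comm]

theorem plusQ_swap {m : ℕ} (d : F) (v : Fin m ⊕ Fin m → F) :
    plusQ m F (swapMat m d *ᵥ v) = d * plusQ m F v := by
  rw [swapMat_mulVec, plusQ_coe]
  simp [Cfsg.quadFormPlus, Finset.mul_sum]
  exact Finset.sum_congr rfl fun i _ => by ring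

/-- Two hyperbolic pairs. -/
noncomputable def plusData {m : ℕ} (hm : 2 ≤ m) : HypData (plusQ m F) where
  u := Pi.single (Sum.inl ⟨0, by omega⟩) 1
  v := Pi.single (Sum.inl ⟨1, by omega⟩) 1
  u' := Pi.single (Sum.inr ⟨0, by omega⟩) 1
  v' := Pi.single (Sum.inr ⟨1, by omega⟩) 1
  hu := by simp [plusQ_coe, Cfsg.quadFormPlus]
  hv := by simp [plusQ_coe, Cfsg.quadFormPlus]
  hu' := by simp [plusQ_coe, Cfsg.quadFormPlus]
  hv' := by simp [plusQ_coe, Cfsg.quadFormPlus]
  huv := by simp [polar_plusQ]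
  huv' := by simp [polar_plusQ, Pi.single_apply]
  hu'v := by simp [polar_plusQ, Pi.single_apply]
  hu'v' := by simp [polar_plusQ]
  huu' := by simp [polar_plusQ, Pi.single_apply]
  hvv' := by simp [polar_plusQ, Pi.single_apply]

/-- The plus form. -/
noncomputable def plusSim {m : ℕ} (hm : 4 ≤ m) (h2 : (2 : F) ≠ 0) : SimData (plusQ m F) where
  M := m
  hQ := plusQ_nondegenerate m
  h2 := h2
  hn := by simp; omega
  hM := by simp; omega
  hyp := plusData (by omega)
  e := Pi.single (Sum.inl ⟨0, by omega⟩) 1 + Pi.single (Sum.inr ⟨0, by omega⟩) 1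
  he := by simp [plusQ_coe, Cfsg.quadFormPlus, Pi.single_apply]
  d := (CfsgLib.OrthOmega.exists_not_square h2).choose
  hd := (CfsgLib.OrthOmega.exists_not_square h2).choose_spec
  δ := ⟨GeneralLinearGroup.mkOfDetNeZero (swapMat m (CfsgLib.OrthOmega.exists_not_square h2).choose) (by
      rw [det_swapMat]
      exact mul_ne_zero (pow_ne_zero _ (neg_ne_zero.2 one_ne_zero))
        (pow_ne_zero _ fun h => (CfsgLib.OrthOmega.exists_not_square h2).choose_spec ⟨0, h.trans (mul_zero 0).symm⟩)),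
    Units.mk0 _ (fun h => (CfsgLib.OrthOmega.exists_not_square h2).choose_spec ⟨0, h.trans (mul_zero 0).symm⟩),
    fun v => plusQ_swap _ v⟩
  hδ := fun v => plusQ_swap _ v
  hδd := det_swapMat m _
  hδ2 := swapMat_sq _

theorem pow_mod_four {q : ℕ} (hq : Odd q) (n : ℕ) : q ^ n % 4 = 1 ↔ ¬ (Odd n ∧ q % 4 = 3) := by
  have hq1 := Nat.odd_iff.1 hq
  have h2 : q ^ 2 % 4 = 1 := by
    rw [Nat.pow_mod]
    have : q % 4 = 1 ∨ q % 4 = 3 := by omega
    rcases this with h | h <;> rw [h]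
  rcases Nat.even_or_odd n with he | ho
  · obtain ⟨j, rfl⟩ := he
    have : q ^ (j + j) % 4 = 1 := by rw [← two_mul, pow_mul, Nat.pow_mod, h2]; simp
    simp [this, Nat.not_odd_iff_even.2 (⟨j, rfl⟩ : Even (j + j))]
  · obtain ⟨j, rfl⟩ := ho
    have : q ^ (2 * j + 1) % 4 = q % 4 := by rw [pow_succ, pow_mul, Nat.mul_mod, Nat.pow_mod, h2]; simp
    rw [this]
    simp only [show Odd (2 * j + 1) from ⟨j, rfl⟩, true_and]
    omega

theorem plus_neg_mem {m : ℕ} (hq : Odd (Fintype.card F)) :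
    SimData.negO (plusQ m F) ∈ Cfsg.Omega F ⇑(plusQ m F) ↔ ¬ (Odd m ∧ Fintype.card F % 4 = 3) := by
  rw [← pow_mod_four hq, ← pairs_involution_mem_iff (plusQ_nondegenerate m) rfl hq (Sum.inl : Fin m → _)
    Sum.inr (fun _ => -1) (fun j => by simp [plusQ_coe, Cfsg.quadFormPlus])
    (fun j => by simp [plusQ_coe, Cfsg.quadFormPlus])
    (fun j l => by simp [polar_plusQ, Pi.single_apply, eq_comm]) (fun j l => by simp [polar_plusQ])
    (fun j l => by simp [polar_plusQ]) (fun _ => rfl) (fun _ => rfl)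
    (fun k h1 h2 => by rcases k with j | j <;> [exact absurd rfl (h1 j); exact absurd rfl (h2 j)])]
  have hmat : (((SimData.negO (plusQ m F) : O (plusQ m F)) : GL (Fin m ⊕ Fin m) F) :
      Matrix (Fin m ⊕ Fin m) (Fin m ⊕ Fin m) F) = diagonal fun _ => -1 := by
    show Matrix.scalar _ ((-1 : Fˣ) : F) = _
    simp
  exact ⟨fun h => ⟨_, h, hmat⟩, fun ⟨g, hg, hm⟩ => by
    rwa [show SimData.negO (plusQ m F) = g from Subtype.ext (Units.ext (hmat.trans hm.symm))]⟩

/-- `z ↦ u z̄` on the binary part. -/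
def conjMat (a b u w : F) : Matrix (Fin 2) (Fin 2) F := !![u, a * u + b * w; w, -u]

theorem det_conjMat (a b u w : F) : (conjMat a b u w).det = -(u ^ 2 + a * u * w + b * w ^ 2) := by
  rw [det_fin_two]; simp [conjMat]; ring

theorem conjMat_sq (a b u w : F) : conjMat a b u w * conjMat a b u w = (u ^ 2 + a * u * w + b * w ^ 2) • 1 := by
  ext i j
  fin_cases i <;> fin_cases j <;> simp [conjMat, Matrix.mul_apply, Fin.sum_univ_two] <;> ring

/-- The similarity on the minus space. -/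
def minusSwap (k : ℕ) (a b d u w : F) : Matrix (MI k) (MI k) F :=
  fromBlocks (swapMat k d) 0 0 (conjMat a b u w)

theorem minusQ_swap {k : ℕ} {a b d u w : F} (hu : u ^ 2 + a * u * w + b * w ^ 2 = d) (v : MI k → F) :
    minusQ k F a b (minusSwap k a b d u w *ᵥ v) = d * minusQ k F a b v := by
  rw [minusSwap, fromBlocks_mulVec, minusQ_coe]
  simp only [Cfsg.quadFormMinus, Sum.elim_inl, Sum.elim_inr, zero_mulVec, add_zero, zero_add,
    swapMat_mulVec, mul_add, Finset.mul_sum, Function.comp_apply]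
  congr 1
  · exact Finset.sum_congr rfl fun i _ => by ring
  · simp only [conjMat, Matrix.mulVec, dotProduct, Fin.sum_univ_two, Function.comp_apply, Matrix.of_apply,
      Matrix.cons_val', Matrix.cons_val_zero, Matrix.cons_val_one, Matrix.empty_val', Matrix.cons_val_fin_one]
    rw [← hu]
    ring

theorem exists_norm_rep (h2 : (2 : F) ≠ 0) {a b : F}
    (hab : ∀ z₁ z₂ : F, z₁ ^ 2 + a * z₁ * z₂ + b * z₂ ^ 2 = 0 → z₁ = 0 ∧ z₂ = 0) (d : F) :
    ∃ u w : F, u ^ 2 + a * u * w + b * w ^ 2 = d := by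
  have h4 : (4 : F) ≠ 0 := by rw [show (4 : F) = 2 * 2 by norm_num]; exact mul_ne_zero h2 h2
  have hδ := not_isSquare_delta h2 hab
  have hδ0 : a ^ 2 - 4 * b ≠ 0 := fun h => hδ (by rw [h]; exact IsSquare.zero)
  obtain ⟨s, w, hsw⟩ := exists_binary h2 (A := (1 : F)) (B := -((a ^ 2 - 4 * b) / 4)) one_ne_zero
    (neg_ne_zero.2 (div_ne_zero hδ0 h4)) d
  refine ⟨s - a / 2 * w, w, ?_⟩
  rw [← hsw]
  field_simp
  ring

/-- The minus form. -/
noncomputable def minusSim {k : ℕ} (hk : 3 ≤ k) (h2 : (2 : F) ≠ 0) {a b : F}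
    (hab : ∀ z₁ z₂ : F, z₁ ^ 2 + a * z₁ * z₂ + b * z₂ ^ 2 = 0 → z₁ = 0 ∧ z₂ = 0) :
    SimData (minusQ k F a b) :=
  let hd := (CfsgLib.OrthOmega.exists_not_square h2).choose_spec
  let d := (CfsgLib.OrthOmega.exists_not_square h2).choose
  let u := (exists_norm_rep h2 hab d).choose
  let w := (exists_norm_rep h2 hab d).choose_spec.choose
  have hu : u ^ 2 + a * u * w + b * w ^ 2 = d := (exists_norm_rep h2 hab d).choose_spec.choose_spec
  have hd0 : d ≠ 0 := fun h => hd (show IsSquare d from h ▸ IsSquare.zero)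
  have hdet : (minusSwap k a b d u w).det = (-1) ^ (k + 1) * d ^ (k + 1) := by
    rw [minusSwap, det_fromBlocks_zero₁₂, det_swapMat, det_conjMat, hu]; ring
  { M := k + 1
    hQ := minusQ_nondegenerate h2 hab
    h2 := h2
    hn := by simp; omega
    hM := by simp; ring
    hyp := minusData (by omega) a b
    e := eM k F
    he := minusQ_eM
    d := d
    hd := hd
    δ := ⟨GeneralLinearGroup.mkOfDetNeZero (minusSwap k a b d u w) (by
      rw [hdet]; exact mul_ne_zero (pow_ne_zero _ (neg_ne_zero.2 one_ne_zero)) (pow_ne_zero _ hd0)),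
      Units.mk0 d hd0, fun v => minusQ_swap hu v⟩
    hδ := fun v => minusQ_swap hu v
    hδd := hdet
    hδ2 := by
      show minusSwap k a b d u w * minusSwap k a b d u w = _
      rw [minusSwap, fromBlocks_multiply, swapMat_sq, conjMat_sq, hu]
      ext i j
      rcases i with i | i <;> rcases j with j | j <;> simp [Matrix.one_apply] }

theorem minus_neg_mem {k : ℕ} {a b : F} (hq : Odd (Fintype.card F))
    (hab : ∀ z₁ z₂ : F, z₁ ^ 2 + a * z₁ * z₂ + b * z₂ ^ 2 = 0 → z₁ = 0 ∧ z₂ = 0) :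
    SimData.negO (minusQ k F a b) ∈ Cfsg.Omega F ⇑(minusQ k F a b) ↔
      Even k ∧ Fintype.card F % 4 = 3 := by
  show negI (minusQ k F a b) ∈ _ ↔ _
  rw [negI_mem_iff (two_ne_zero_of_odd rfl hq) hab rfl hq, pow_mod_four hq, not_not, Nat.odd_add_one,
    Nat.not_odd_iff_even]

end CfsgLib.POmegaSim
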