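import Cfsg.Agent.Lib.POmegaSim.Structure
import Cfsg.Agent.Lib.OrthOmega.Adjust

/-!
Similarities whose square is a scalar: the determinant, and commuting isometries with non-trivial spinor norm.
-/

set_option autoImplicit false
set_option linter.unusedSectionVars false

namespace CfsgLib.POmegaSim

open Matrix QuadraticMap CfsgLib.Orth Cfsg.Agent.GammaO57 Cfsg.Agent.Spinor57 Module Polynomial

variable {F : Type*} [Field F] [Fintype F] {ι : Type} [Fintype ι] [DecidableEq ι]
  {Q : QuadraticForm F (ι → F)}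

theorem charmatrix_mul_neg {g : Matrix ι ι F} {l : F} (hg : g * g = l • 1) :
    g.charpoly * (-g).charpoly = (X ^ 2 - Polynomial.C l) ^ Fintype.card ι := by
  rw [Matrix.charpoly, Matrix.charpoly, ← det_mul]
  have h : charmatrix g * charmatrix (-g) = Matrix.scalar ι (X ^ 2 - Polynomial.C l) := by
    have hgg : g.map Polynomial.C * g.map Polynomial.C = Polynomial.C l • (1 : Matrix ι ι F[X]) := by
      rw [← Matrix.map_mul, hg]
      ext i j
      by_cases hij : i = j <;> simp [Matrix.one_apply, hij]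
    have hneg : (-g).map Polynomial.C = -(g.map Polynomial.C) := by ext i j; simp
    simp only [charmatrix, RingHom.mapMatrix_apply, hneg, sub_neg_eq_add]
    rw [sub_mul, mul_add, mul_add, hgg, (Matrix.scalar_commute (X : F[X]) (fun _ => Commute.all _ _)
      (g.map Polynomial.C)).eq]
    rw [map_sub, pow_two, map_mul, Matrix.scalar_apply (Polynomial.C l), Matrix.smul_one_eq_diagonal]
    abel
  rw [h, Matrix.scalar_apply, det_diagonal, Finset.prod_const, Finset.card_univ]

theorem det_of_nonsquare {g : Matrix ι ι F} {l : F} {M : ℕ} (hM : Fintype.card ι = 2 * M)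
    (hg : g * g = l • 1) (hl : ¬ IsSquare l) : g.det = (-l) ^ M := by
  have hirr : Irreducible (X ^ 2 - Polynomial.C l : F[X]) := by
    refine (Polynomial.irreducible_iff_roots_eq_zero_of_degree_le_three ?_ ?_).2 ?_
    · rw [natDegree_X_pow_sub_C]
    · rw [natDegree_X_pow_sub_C]; norm_num
    · refine Multiset.eq_zero_of_forall_notMem fun z hz => hl ?_
      have hz' := (mem_roots (X_pow_sub_C_ne_zero (by norm_num) l)).1 hz
      simp [sub_eq_zero] at hz'
      exact ⟨z, by rw [← hz', pow_two]⟩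
  have hdvd : g.charpoly ∣ (X ^ 2 - Polynomial.C l) ^ Fintype.card ι := ⟨_, (charmatrix_mul_neg hg).symm⟩
  obtain ⟨j, -, hj⟩ := (dvd_prime_pow hirr.prime _).1 hdvd
  have hmon : ((X ^ 2 - Polynomial.C l : F[X]) ^ j).Monic := (monic_X_pow_sub_C l (by norm_num)).pow j
  have he := eq_of_monic_of_associated g.charpoly_monic hmon hj
  have hdeg := g.charpoly_natDegree_eq_dim
  rw [he, natDegree_pow, natDegree_X_pow_sub_C, hM] at hdeg
  rw [det_eq_sign_charpoly_coeff, he, hM, coeff_zero_eq_eval_zero, show j = M by omega]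
  simp [pow_mul]

theorem det_of_skew (hQ : Q.polarBilin.Nondegenerate) (h2 : (2 : F) ≠ 0) {g : Matrix ι ι F} {c : F}
    {M : ℕ} (hM : Fintype.card ι = 2 * M) (hg : g * g = (-c) • 1) (hc : ∀ v, Q (g *ᵥ v) = c * Q v)
    (hc0 : c ≠ 0) : g.det = c ^ M := by
  set B := LinearMap.toMatrix₂' F Q.polarBilin
  have hB0 : B.det ≠ 0 :=
    Matrix.nondegenerate_iff_det_ne_zero.1 (LinearMap.nondegenerate_toMatrix₂'_iff.2 hQ)
  have hpol : Q.polarBilin.compl₁₂ (Matrix.toLin' g) (Matrix.toLin' g) = c • Q.polarBilin := by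
    refine LinearMap.ext₂ fun x y => ?_
    simp [QuadraticMap.polar, ← mulVec_add, hc]
    ring
  have hB : gᵀ * B * g = c • B := by
    rw [← map_smul, ← hpol, LinearMap.toMatrix₂'_compl₁₂, LinearMap.toMatrix'_toLin']
  have hskew : gᵀ * B = B * (-g) := by
    have h1 := congrArg (· * g) hB
    simp only [Matrix.mul_assoc, hg, Matrix.mul_smul, Matrix.mul_one, Matrix.smul_mul] at h1
    rw [neg_smul, ← smul_neg] at h1
    have h1' := smul_right_injective _ hc0 h1
    rw [Matrix.mul_neg, neg_eq_iff_eq_neg.1 h1']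
  have hcp : g.charpoly = (-g).charpoly := by
    let Bu : (Matrix ι ι F)ˣ := GeneralLinearGroup.mkOfDetNeZero B hB0
    have h1 : gᵀ = Bu.val * (-g) * Bu⁻¹.val := by
      rw [show Bu.val = B from rfl, ← hskew, Matrix.mul_assoc, show B * Bu⁻¹.val = 1 from Bu.mul_inv,
        Matrix.mul_one]
    rw [← g.charpoly_transpose, h1, Matrix.coe_units_inv, charpoly_units_conj]
  have hP := charmatrix_mul_neg hg
  rw [← hcp, hM, pow_mul', ← pow_two] at hP
  set R := (X ^ 2 - Polynomial.C (-c) : F[X]) ^ M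
  have hR : R.Monic := (monic_X_pow_sub_C _ (by norm_num)).pow M
  have he : g.charpoly = R := by
    rcases sq_eq_sq_iff_eq_or_eq_neg.1 hP with h | h
    · exact h
    · exfalso
      have h1 := congrArg leadingCoeff h
      rw [g.charpoly_monic.leadingCoeff, leadingCoeff_neg, hR.leadingCoeff] at h1
      exact h2 (by linear_combination h1)
  rw [det_eq_sign_charpoly_coeff, he, hM, coeff_zero_eq_eval_zero]
  simp [R, pow_mul]

theorem polar_of_mult {g : Matrix ι ι F} {c : F} (hc : ∀ v, Q (g *ᵥ v) = c * Q v) (x y : ι → F) :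
    polar Q (g *ᵥ x) (g *ᵥ y) = c * polar Q x y := by
  rw [QuadraticMap.polar, ← Matrix.mulVec_add, hc, hc, hc, QuadraticMap.polar]; ring

/-- A non-degenerate form in dimension at least five has a singular vector. -/
theorem exists_singular_vec (hQ : Q.polarBilin.Nondegenerate) (h2 : (2 : F) ≠ 0) (hn : 5 ≤ Fintype.card ι) :
    ∃ z : ι → F, z ≠ 0 ∧ Q z = 0 := by
  obtain ⟨y, hy⟩ := CfsgLib.Orth.exists_anisotropic hQ (by omega)
  have hy0 : y ≠ 0 := fun h => hy (by rw [h, QuadraticMap.map_zero])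
  obtain ⟨x, hx, hyx⟩ := CfsgLib.OrthOmega.exists_anisotropic_ortho hQ (Submodule.span F {y})
    (by rw [finrank_span_singleton hy0]; omega)
  have hx0 : x ≠ 0 := fun h => hx (by rw [h, QuadraticMap.map_zero])
  obtain ⟨w, -, hyw, hw⟩ := exists_ortho_value hQ h2 hn hx0 hy
    (by rw [polar_comm]; exact hyx y (Submodule.mem_span_singleton_self y)) (-Q y)
  refine ⟨y + w, fun h => ?_, ?_⟩
  · rw [show w = -y from eq_neg_of_add_eq_zero_right h, polar_neg_right, polar_self', neg_eq_zero,
      mul_eq_zero] at hyw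
    exact hyw.elim h2 hy
  · rw [QuadraticMap.map_add Q, hyw, hw]; ring

/-- A vector orthogonal to its image under a self-adjoint square root of a non-square. -/
theorem exists_orth_image (hQ : Q.polarBilin.Nondegenerate) (h2 : (2 : F) ≠ 0) (hn : 5 ≤ Fintype.card ι)
    {g : Matrix ι ι F} {c : F} (hc : ∀ v, Q (g *ᵥ v) = c * Q v) (hg : g * g = c • 1) (hns : ¬ IsSquare c) :
    ∃ v, Q v ≠ 0 ∧ polar Q v (g *ᵥ v) = 0 := by
  have hc0 : c ≠ 0 := fun h => hns (h ▸ IsSquare.zero)
  have hgg : ∀ x, g *ᵥ (g *ᵥ x) = c • x := fun x => by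
    rw [Matrix.mulVec_mulVec, hg, Matrix.smul_mulVec, Matrix.one_mulVec]
  have hadj : ∀ x y, polar Q (g *ᵥ x) y = polar Q x (g *ᵥ y) := fun x y => by
    have h := polar_of_mult hc x (g *ᵥ y)
    rw [hgg, polar_smul_right, smul_eq_mul] at h
    exact mul_left_cancel₀ hc0 h
  let R : QuadraticForm F (ι → F) :=
    LinearMap.BilinMap.toQuadraticMap (Q.polarBilin.compl₂ (Matrix.toLin' g))
  have hR : ∀ x, R x = polar Q x (g *ᵥ x) := fun x => by simp [R]
  have hRp : ∀ x y, polar R x y = 2 * polar Q x (g *ᵥ y) := fun x y => by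
    rw [QuadraticMap.polar, hR, hR, hR, Matrix.mulVec_add, polar_add_left, polar_add_right, polar_add_right,
      ← hadj y x, polar_comm Q (g *ᵥ y) x]
    ring
  have hRn : R.polarBilin.Nondegenerate := by
    have key : ∀ x, (∀ y, polar R x y = 0) → x = 0 := fun x hx => by
      refine hQ.1 x fun y => ?_
      have h := hx (c⁻¹ • (g *ᵥ y))
      rw [hRp, Matrix.mulVec_smul, hgg, smul_smul, inv_mul_cancel₀ hc0, one_smul] at h
      exact (mul_eq_zero.1 h).resolve_left h2
    exact ⟨key, fun x hx => key x fun y => by rw [polar_comm]; exact hx y⟩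
  obtain ⟨z, hz0, hz⟩ := exists_singular_vec hRn h2 hn
  rw [hR] at hz
  by_cases hQz : Q z = 0
  swap
  · exact ⟨z, hQz, hz⟩
  have hind : g *ᵥ z ∉ Submodule.span F {z} := fun h => by
    obtain ⟨t, ht⟩ := Submodule.mem_span_singleton.1 h
    have h' := hgg z
    rw [← ht, Matrix.mulVec_smul, ← ht, smul_smul] at h'
    exact hns ⟨t, ((smul_left_injective F hz0) h').symm⟩
  obtain ⟨w0, hw1, hw2⟩ := exists_polar_eq_zero_one hQ hind
  set U := Submodule.span F {z} ⊔ Submodule.span F {g *ᵥ z}
  have hgz0 : g *ᵥ z ≠ 0 := fun h => hind (h ▸ Submodule.zero_mem _)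
  obtain ⟨k, hk, hkU⟩ := CfsgLib.OrthOmega.exists_anisotropic_ortho hQ U (by
    have h3 := Submodule.finrank_add_le_finrank_add_finrank (Submodule.span F {z}) (Submodule.span F {g *ᵥ z})
    rw [finrank_span_singleton hz0, finrank_span_singleton hgz0] at h3
    have h3' : finrank F ↥U ≤ 1 + 1 := h3
    omega)
  have hk1 : polar Q z k = 0 := hkU z (Submodule.mem_sup_left (Submodule.mem_span_singleton_self _))
  have hk2 : polar Q (g *ᵥ z) k = 0 := hkU _ (Submodule.mem_sup_right (Submodule.mem_span_singleton_self _))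
  obtain ⟨w, hwa, hwb, hwQ⟩ : ∃ w, polar Q z w = 0 ∧ polar Q (g *ᵥ z) w = 1 ∧ Q w ≠ 0 := by
    by_contra h
    push Not at h
    have e1 := h (w0 + k) (by rw [polar_add_right, hw1, hk1, add_zero]) (by rw [polar_add_right, hw2, hk2, add_zero])
    have e2 := h (w0 + -k) (by rw [polar_add_right, polar_neg_right, hw1, hk1, neg_zero, add_zero])
      (by rw [polar_add_right, polar_neg_right, hw2, hk2, neg_zero, add_zero])
    have e0 := h w0 hw1 hw2
    rw [QuadraticMap.map_add Q] at e1 e2
    rw [QuadraticMap.map_neg, polar_neg_right] at e2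
    have : (2 : F) * Q k = 0 := by linear_combination e1 + e2 - 2 * e0
    exact hk ((mul_eq_zero.1 this).resolve_left h2)
  set s := -(R w) / 2
  refine ⟨w + s • z, ?_, ?_⟩
  · rw [QuadraticMap.map_add Q, QuadraticMap.map_smul, polar_smul_right, hQz, polar_comm Q w z, hwa]
    simpa using hwQ
  · rw [← hR, QuadraticMap.map_add R, QuadraticMap.map_smul, hR z, hz, polar_smul_right, hRp,
      polar_comm Q w (g *ᵥ z), hwb]
    simp [s]
    field_simp
    ring

end CfsgLib.POmegaSim
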