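import Cfsg.Agent.Helper57SemiClass
import Cfsg.Agent.Helper57Similitude
import Cfsg.Agent.Helper57Spinor
import Cfsg.Agent.Helper57DihExt

/-!
The conformal group of an even-dimensional quadratic space in odd characteristic modulo scalars and `Ω`:
it is generated by the classes of one reflection and one similarity with non-square multiplier.
-/

set_option autoImplicit false
set_option linter.unusedSectionVars false

namespace CfsgLib.POmegaSim

open Matrix QuadraticMap CfsgLib.Orth Cfsg.Agent.GammaO57 Cfsg.Agent.Spinor57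

variable {F : Type*} [Field F] [Fintype F] {ι : Type} [Fintype ι] [DecidableEq ι]

/-- The similarity group. -/
abbrev Sim (Q : QuadraticForm F (ι → F)) : Subgroup (GL ι F) := Cfsg.Geo.quadSimilarityGroup (F := F) ⇑Q

variable {Q : QuadraticForm F (ι → F)}

/-- A similarity as a semisimilarity. -/
def emb (Q : QuadraticForm F (ι → F)) : ↥(Sim Q) →* ↥(semiGroup Q) where
  toFun x := ⟨SemidirectProduct.inl x.1, by
    obtain ⟨c, hc⟩ := x.2
    refine ⟨c, fun v => ?_⟩
    show Q ((x.1 : Matrix ι ι F) *ᵥ ((1 : F ≃+* F) ∘ v)) = _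
    exact hc v⟩
  map_one' := Subtype.ext (map_one _)
  map_mul' x y := Subtype.ext (map_mul SemidirectProduct.inl x.1 y.1)

/-- The action on `PΩ(Q)`. -/
noncomputable def act (Q : QuadraticForm F (ι → F)) : ↥(Sim Q) →* MulAut (Cfsg.POmega F ⇑Q) :=
  (gAut Q).comp (emb Q)

theorem act_induced (x : ↥(Sim Q)) : Cfsg.IsInducedBySemilinearPOmega ⇑Q x.1 (RingEquiv.refl F) (act Q x) :=
  fun s s' h => by
    show gAut Q (emb Q x) (QuotientGroup.mk s) = _
    rw [gAut_mk]
    exact congrArg _ (Subtype.ext (Subtype.ext (Units.ext h.symm)))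

theorem induced_unique (x : ↥(Sim Q)) {β : MulAut (Cfsg.POmega F ⇑Q)}
    (h : Cfsg.IsInducedBySemilinearPOmega ⇑Q x.1 (RingEquiv.refl F) β) : β = act Q x :=
  MulEquiv.ext fun y => by
    induction y using QuotientGroup.induction_on with
    | _ s =>
      show _ = gAut Q (emb Q x) (QuotientGroup.mk s)
      rw [gAut_mk]
      exact h s _ rfl

/-- The subgroup generated by the automorphisms induced by the elements with a property is the image. -/
theorem autSubgroup_eq (H : Subgroup ↥(Sim Q)) (P : GL ι F → Prop)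
    (hP : ∀ g, P g ↔ ∃ h : g ∈ Sim Q, (⟨g, h⟩ : ↥(Sim Q)) ∈ H) :
    Cfsg.autSubgroupOf (fun β : Cfsg.POmega F ⇑Q ≃* Cfsg.POmega F ⇑Q =>
      ∃ g, P g ∧ Cfsg.IsInducedBySemilinearPOmega ⇑Q g (RingEquiv.refl F) β) = H.map (act Q) := by
  refine le_antisymm ((Subgroup.closure_le _).2 ?_) ?_
  · rintro β ⟨g, hg, hβ⟩
    obtain ⟨h, hH⟩ := (hP g).1 hg
    exact ⟨⟨g, h⟩, hH, (induced_unique ⟨g, h⟩ hβ).symm⟩
  · rintro _ ⟨x, hx, rfl⟩
    exact Subgroup.subset_closure ⟨x.1, (hP _).2 ⟨x.2, hx⟩, act_induced x⟩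

/-- An isometry as a similarity. -/
def oS (Q : QuadraticForm F (ι → F)) : O Q →* ↥(Sim Q) where
  toFun g := ⟨g.1, 1, fun v => by rw [Units.val_one, one_mul]; exact Q_app g v⟩
  map_one' := rfl
  map_mul' _ _ := rfl

theorem conj_oS (x : ↥(Sim Q)) (g : O Q) : x * oS Q g * x⁻¹ = oS Q (conjO Q (emb Q x) g) := by
  refine Subtype.ext ?_
  show x.1 * g.1 * x.1⁻¹ = _
  show _ = (conjO Q (emb Q x) g : GL ι F)
  rw [conjO_coe]
  rfl

/-- A homomorphism with the expected kernel descends to the image in the automorphism group. -/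
theorem descend {A : Type*} [Group A] {G : Type*} [Group G] (π : G →* A) (H : Subgroup G) (B : Subgroup A)
    {T : Type*} [Group T] (Ψ : ↥H →* T) (hsurj : Function.Surjective Ψ)
    (hker : ∀ x : ↥H, Ψ x = 1 ↔ π x ∈ B) :
    ∃ φ : ↥(H.map π) →* T, Function.Surjective φ ∧ φ.ker = B.subgroupOf (H.map π) := by
  let f := π.subgroupMap H
  have hf : Function.Surjective f := π.subgroupMap_surjective H
  have hle : f.ker ≤ Ψ.ker := fun x hx => by
    rw [MonoidHom.mem_ker, hker]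
    have : π x = 1 := congrArg Subtype.val (MonoidHom.mem_ker.1 hx)
    rw [this]; exact one_mem B
  let φ := f.liftOfSurjective hf ⟨Ψ, hle⟩
  have hφ : ∀ x, φ (f x) = Ψ x := fun x => MonoidHom.liftOfRightInverse_comp_apply f _ _ _ x
  refine ⟨φ, fun t => ?_, ?_⟩
  · obtain ⟨x, rfl⟩ := hsurj t
    exact ⟨f x, hφ x⟩
  · ext y
    obtain ⟨x, rfl⟩ := hf y
    rw [MonoidHom.mem_ker, hφ, hker, Subgroup.mem_subgroupOf]
    rfl

/-- Scalars times `Ω`. -/
noncomputable def nrm (Q : QuadraticForm F (ι → F)) : Subgroup ↥(Sim Q) :=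
  ((outMap Q).comp (emb Q)).ker

instance (Q : QuadraticForm F (ι → F)) : (nrm Q).Normal := MonoidHom.normal_ker _

/-- The data: an even dimension `2M`, a unit vector, a non-square `d` and a similarity with square `d`. -/
structure SimData (Q : QuadraticForm F (ι → F)) where
  M : ℕ
  hQ : Q.polarBilin.Nondegenerate
  h2 : (2 : F) ≠ 0
  hn : 5 ≤ Fintype.card ι
  hM : Fintype.card ι = 2 * M
  hyp : HypData Q
  e : ι → F
  he : Q e = 1
  d : F
  hd : ¬ IsSquare d
  δ : ↥(Sim Q)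
  hδ : ∀ v, Q ((δ.1 : Matrix ι ι F) *ᵥ v) = d * Q v
  hδd : (δ.1 : Matrix ι ι F).det = (-1) ^ M * d ^ M
  hδ2 : (δ.1 : Matrix ι ι F) * (δ.1 : Matrix ι ι F) = d • 1

variable (S : SimData Q)

namespace SimData

include S

theorem hd0 : S.d ≠ 0 := fun h => S.hd (h ▸ IsSquare.zero)

theorem neg_one_ne : (-1 : Fˣ) ≠ 1 := fun h => S.h2 (by
  have h' : (-1 : F) = 1 := congrArg Units.val h
  linear_combination -h')

/-- The multiplier. -/
noncomputable def mult : ↥(Sim Q) →* Fˣ :=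
  MonoidHom.mk' (fun x => x.2.choose) fun x y => by
    apply Units.ext
    have h1 := (x * y).2.choose_spec S.e
    have h2 := x.2.choose_spec
    have h3 := y.2.choose_spec S.e
    rw [S.he, mul_one] at h1 h3
    rw [← h1, Units.val_mul, ← h3, ← h2, Matrix.mulVec_mulVec]
    rfl

theorem mult_spec (x : ↥(Sim Q)) (v : ι → F) :
    Q ((x.1 : Matrix ι ι F) *ᵥ v) = (S.mult x : F) * Q v := x.2.choose_spec v

theorem mult_eq (x : ↥(Sim Q)) {c : F} (h : ∀ v, Q ((x.1 : Matrix ι ι F) *ᵥ v) = c * Q v) :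
    (S.mult x : F) = c := by
  have h1 := S.mult_spec x S.e
  rw [h, S.he, mul_one, mul_one] at h1
  exact h1.symm

/-- `det g / μ(g)^M`. -/
noncomputable def sdet : ↥(Sim Q) →* Fˣ :=
  (GeneralLinearGroup.det.comp (Sim Q).subtype) * (S.mult ^ S.M)⁻¹

theorem sdet_apply (x : ↥(Sim Q)) :
    (S.sdet x : F) = (x.1 : Matrix ι ι F).det * ((S.mult x : F) ^ S.M)⁻¹ := by
  simp [sdet]

theorem sdet_cases (x : ↥(Sim Q)) : S.sdet x = 1 ∨ S.sdet x = -1 := by
  have h := det_sq_of_similitude S.hQ (S.mult_spec x)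
  rw [S.hM, pow_mul'] at h
  have h0 : (S.mult x : F) ^ S.M ≠ 0 := pow_ne_zero _ (Units.ne_zero _)
  have : (S.sdet x : F) * (S.sdet x : F) = 1 := by
    rw [S.sdet_apply, mul_mul_mul_comm, ← pow_two, h, pow_two, ← mul_inv, mul_inv_cancel₀ (mul_ne_zero h0 h0)]
  rcases mul_self_eq_one_iff.1 this with h' | h'
  · exact Or.inl (Units.ext h')
  · exact Or.inr (Units.ext h')

open scoped Classical in
/-- The sign of `det g / μ(g)^M`. -/
noncomputable def sgn : ↥(Sim Q) →* ℤˣ :=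
  MonoidHom.mk' (fun x => if S.sdet x = 1 then 1 else -1) fun x y => by
    rcases S.sdet_cases x with hx | hx <;> rcases S.sdet_cases y with hy | hy <;>
      simp [map_mul, hx, hy, S.neg_one_ne, S.neg_one_ne.symm]

theorem sgn_eq_one_iff (x : ↥(Sim Q)) : S.sgn x = 1 ↔ S.sdet x = 1 := by
  classical
  show (if S.sdet x = 1 then (1 : ℤˣ) else -1) = 1 ↔ _
  split_ifs with h <;> simp [h]

/-- The square class of the multiplier. -/
noncomputable def sq : ↥(Sim Q) →* ℤˣ :=
  MonoidHom.mk' (fun x => sqSign (S.mult x : F)) fun x y => by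
    rw [map_mul, Units.val_mul]
    exact sqSign_mul (Units.ne_zero _) (Units.ne_zero _)

/-- Both invariants. -/
noncomputable def inv : ↥(Sim Q) →* ℤˣ × ℤˣ := S.sq.prod S.sgn

theorem mult_oS (g : O Q) : S.mult (oS Q g) = 1 :=
  Units.ext (S.mult_eq _ fun v => (Q_app g v).trans (one_mul _).symm)

theorem sdet_oS (g : O Q) : S.sdet (oS Q g) = detHom Q g := by
  apply Units.ext
  rw [S.sdet_apply, S.mult_oS]
  simp [detHom]
  rfl

theorem sq_oS (g : O Q) : S.sq (oS Q g) = 1 := by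
  show sqSign (S.mult (oS Q g) : F) = 1
  rw [S.mult_oS]
  exact sqSign_one

theorem mult_delta : (S.mult S.δ : F) = S.d := S.mult_eq _ S.hδ

theorem sq_delta : S.sq S.δ = -1 := by
  rcases Int.units_eq_one_or (S.sq S.δ) with h | h
  · exact absurd ((sqSign_eq_one_iff _).1 h) (by rw [S.mult_delta]; exact S.hd)
  · exact h

theorem sdet_delta : (S.sdet S.δ : F) = (-1) ^ S.M := by
  rw [S.sdet_apply, S.mult_delta, S.hδd, mul_assoc, mul_inv_cancel₀ (pow_ne_zero _ S.hd0), mul_one]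

theorem mem_nrm (x : ↥(Sim Q)) : x ∈ nrm Q ↔
    ∃ (c : Fˣ) (s : ↥(Cfsg.Omega F ⇑Q)), x.1 = GeneralLinearGroup.scalar ι c * ((s : O Q) : GL ι F) := by
  have := outMap_eq_one_iff S.hQ S.hn S.hyp (emb Q x)
  exact this.trans ⟨And.right, fun h => ⟨rfl, h⟩⟩

theorem act_mem_inn (x : ↥(Sim Q)) : act Q x ∈ Cfsg.Inn (Cfsg.POmega F ⇑Q) ↔ x ∈ nrm Q := by
  rw [nrm, MonoidHom.mem_ker, MonoidHom.comp_apply, outMap, MonoidHom.comp_apply, QuotientGroup.mk'_apply,
    QuotientGroup.eq_one_iff]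
  rfl

theorem act_scalar (x : ↥(Sim Q)) (c : Fˣ) (h : x.1 = GeneralLinearGroup.scalar ι c) : act Q x = 1 :=
  gAut_scalar (x := emb Q x) rfl h

/-- A scalar as a similarity. -/
def scalarS (Q : QuadraticForm F (ι → F)) (c : Fˣ) : ↥(Sim Q) :=
  ⟨GeneralLinearGroup.scalar ι c, c * c, fun v => by
    show Q (Matrix.scalar ι (c : F) *ᵥ v) = _
    rw [Matrix.scalar_apply, ← Matrix.smul_one_eq_diagonal, smul_mulVec, one_mulVec, QuadraticMap.map_smul,
      Units.val_mul]
    rfl⟩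

theorem scalarS_mem (c : Fˣ) : scalarS Q c ∈ nrm Q :=
  (S.mem_nrm _).2 ⟨c, 1, (mul_one _).symm⟩

theorem mult_scalarS (c : Fˣ) : (S.mult (scalarS Q c) : F) = c * c :=
  S.mult_eq _ fun v => by
    show Q (Matrix.scalar ι (c : F) *ᵥ v) = _
    rw [Matrix.scalar_apply, ← Matrix.smul_one_eq_diagonal, smul_mulVec, one_mulVec, QuadraticMap.map_smul]
    rfl

theorem sdet_scalarS (c : Fˣ) : S.sdet (scalarS Q c) = 1 := by
  apply Units.ext
  rw [S.sdet_apply, S.mult_scalarS]
  show (Matrix.scalar ι (c : F)).det * _ = 1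
  rw [Matrix.scalar_apply, det_diagonal, Finset.prod_const, Finset.card_univ, S.hM, pow_mul, pow_two,
    mul_inv_cancel₀ (pow_ne_zero _ (mul_ne_zero c.ne_zero c.ne_zero))]

theorem exists_isometry {x : ↥(Sim Q)} (h : S.sq x = 1) : ∃ (c : Fˣ) (g : O Q), x = scalarS Q c * oS Q g := by
  obtain ⟨t, ht⟩ := (sqSign_eq_one_iff _).1 h
  have ht0 : t ≠ 0 := fun h0 => Units.ne_zero (S.mult x) (by rw [ht, h0, mul_zero])
  have hm := (mem_O_iff (Q := Q) ((scalarS Q (Units.mk0 t ht0))⁻¹ * x).1).2 fun v => by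
    have h1 := S.mult_spec ((scalarS Q (Units.mk0 t ht0))⁻¹ * x) v
    rw [map_mul, map_inv, Units.val_mul, Units.val_inv_eq_inv_val, S.mult_scalarS, Units.val_mk0, ← ht,
      inv_mul_cancel₀ (Units.ne_zero _), one_mul] at h1
    exact h1
  exact ⟨Units.mk0 t ht0, ⟨_, hm⟩, (mul_inv_cancel_left _ x).symm⟩

/-- The class of a similarity. -/
noncomputable abbrev qcl (Q : QuadraticForm F (ι → F)) := QuotientGroup.mk' (nrm Q)

theorem qcl_scalarS_mul (c : Fˣ) (y : ↥(Sim Q)) : qcl Q (scalarS Q c * y) = qcl Q y := by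
  rw [map_mul, show qcl Q (scalarS Q c) = 1 from (QuotientGroup.eq_one_iff _).2 (S.scalarS_mem c), one_mul]

theorem qcl_congr [DecidableEq F] {g h : O Q} (hgh : chiPair Q S.d g = chiPair Q S.d h) :
    qcl Q (oS Q g) = qcl Q (oS Q h) := by
  have hmem : g⁻¹ * h ∈ Cfsg.Omega F ⇑Q := by
    rw [CfsgLib.OrthOmega.mem_omega_odd S.hQ S.h2 S.hd, map_mul, map_inv, hgh, inv_mul_cancel]
  rw [QuotientGroup.mk'_apply, QuotientGroup.mk'_apply, QuotientGroup.eq, ← map_inv, ← map_mul, S.mem_nrm]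
  exact ⟨1, ⟨_, hmem⟩, by rw [map_one, one_mul]; rfl⟩

/-- The reflection in the unit vector. -/
noncomputable def rA : O Q := refl Q S.e

/-- Its conjugate. -/
noncomputable def rB : O Q := refl Q ((S.δ.1 : Matrix ι ι F) *ᵥ S.e)

theorem rB_value : Q ((S.δ.1 : Matrix ι ι F) *ᵥ S.e) = S.d := by rw [S.hδ, S.he, mul_one]

theorem chi_rA [DecidableEq F] : chiPair Q S.d S.rA = (-1, 1) := by
  rw [rA, chiPair_refl S.h2 S.hd (by rw [S.he]; exact one_ne_zero), S.he, if_pos IsSquare.one]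

theorem chi_rB [DecidableEq F] : chiPair Q S.d S.rB = (1, -1) := by
  rw [rB, chiPair_refl S.h2 S.hd (by rw [S.rB_value]; exact S.hd0), S.rB_value, if_neg S.hd]

theorem det_rA : detHom Q S.rA = -1 := detHom_refl (by rw [S.he]; exact one_ne_zero)

theorem det_rB : detHom Q S.rB = -1 := detHom_refl (by rw [S.rB_value]; exact S.hd0)

/-- The classes. -/
noncomputable def ga : ↥(Sim Q) ⧸ nrm Q := qcl Q (oS Q S.rA)

/-- The classes. -/
noncomputable def gd : ↥(Sim Q) ⧸ nrm Q := qcl Q S.δ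

/-- The classes. -/
noncomputable def gb : ↥(Sim Q) ⧸ nrm Q := qcl Q (oS Q S.rB)

theorem gd_sq : S.gd * S.gd = 1 := by
  rw [gd, ← map_mul, QuotientGroup.mk'_apply, QuotientGroup.eq_one_iff, S.mem_nrm]
  refine ⟨Units.mk0 S.d S.hd0, 1, Units.ext ?_⟩
  rw [Units.val_mul]
  show (S.δ.1 : Matrix ι ι F) * (S.δ.1 : Matrix ι ι F) = Matrix.scalar ι S.d * 1
  rw [mul_one, S.hδ2, Matrix.scalar_apply, Matrix.smul_one_eq_diagonal]

theorem ga_sq : S.ga * S.ga = 1 := by
  rw [ga, ← map_mul, ← map_mul, rA, refl_mul_self, map_one, map_one]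

theorem gd_conj : S.gd * S.ga * S.gd = S.gb := by
  have hinv : S.gd⁻¹ = S.gd := inv_eq_of_mul_eq_one_right S.gd_sq
  conv_lhs => arg 2; rw [← hinv]
  rw [gd, ga, gb, ← map_inv, ← map_mul, ← map_mul, conj_oS, rA, rB, conjO_refl]
  rfl

theorem gab_comm : S.ga * S.gb = S.gb * S.ga := by
  classical
  rw [ga, gb, ← map_mul, ← map_mul, ← map_mul, ← map_mul]
  exact S.qcl_congr (by rw [map_mul, map_mul, mul_comm])

theorem qcl_four (g : O Q) : qcl Q (oS Q g) = 1 ∨ qcl Q (oS Q g) = S.ga ∨ qcl Q (oS Q g) = S.gb ∨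
    qcl Q (oS Q g) = S.ga * S.gb := by
  classical
  rcases Int.units_eq_one_or (chi Q 1 g) with e1 | e1 <;>
    rcases Int.units_eq_one_or (chi Q S.d g) with e2 | e2
  · left
    rw [S.qcl_congr (h := 1) (by rw [map_one]; exact Prod.ext e1 e2), map_one, map_one]
  · right; right; left
    exact S.qcl_congr (by rw [S.chi_rB]; exact Prod.ext e1 e2)
  · right; left
    exact S.qcl_congr (by rw [S.chi_rA]; exact Prod.ext e1 e2)
  · right; right; right
    rw [ga, gb, ← map_mul, ← map_mul]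
    exact S.qcl_congr (by rw [map_mul, S.chi_rA, S.chi_rB]; exact Prod.ext e1 e2)

theorem qcl_mem_closure (x : ↥(Sim Q)) : qcl Q x ∈ Subgroup.closure ({S.ga, S.gd} : Set (↥(Sim Q) ⧸ nrm Q)) := by
  set C := Subgroup.closure ({S.ga, S.gd} : Set (↥(Sim Q) ⧸ nrm Q))
  have ha : S.ga ∈ C := Subgroup.subset_closure (by simp)
  have hd : S.gd ∈ C := Subgroup.subset_closure (by simp)
  have hb : S.gb ∈ C := by rw [← S.gd_conj]; exact mul_mem (mul_mem hd ha) hd
  have hiso : ∀ y, S.sq y = 1 → qcl Q y ∈ C := fun y hy => by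
    obtain ⟨c, g, rfl⟩ := S.exists_isometry hy
    rw [S.qcl_scalarS_mul]
    rcases S.qcl_four g with h | h | h | h <;> rw [h]
    exacts [one_mem _, ha, hb, mul_mem ha hb]
  rcases Int.units_eq_one_or (S.sq x) with h | h
  · exact hiso x h
  · have := hiso (x * S.δ⁻¹) (by rw [map_mul, map_inv, h, S.sq_delta]; decide)
    rw [map_mul, map_inv] at this
    have h' := mul_mem this hd
    rwa [gd, inv_mul_cancel_right] at h'

/-- The negative of the identity. -/
noncomputable def negO (Q : QuadraticForm F (ι → F)) : O Q :=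
  ⟨GeneralLinearGroup.scalar ι (-1), by
    rw [mem_O_iff]
    intro v
    show Q (Matrix.scalar ι ((-1 : Fˣ) : F) *ᵥ v) = _
    rw [Matrix.scalar_apply, ← Matrix.smul_one_eq_diagonal, smul_mulVec, one_mulVec, Units.val_neg,
      Units.val_one, neg_one_smul, QuadraticMap.map_neg]⟩

theorem chi_of_det_one [DecidableEq F] {g : O Q} (hg : detHom Q g = 1) :
    chiPair Q S.d g = 1 ∨ chiPair Q S.d g = (-1, -1) := by
  rw [detHom_eq S.hQ S.h2 S.hd] at hg
  have hne : (-1 : F) ≠ 1 := fun h => S.neg_one_ne (Units.ext (by simpa using h))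
  rcases Int.units_eq_one_or (chi Q 1 g) with e1 | e1 <;>
    rcases Int.units_eq_one_or (chi Q S.d g) with e2 | e2 <;> rw [e1, e2] at hg
  · exact Or.inl (Prod.ext e1 e2)
  · exact absurd (by simpa using congrArg Units.val hg) hne
  · exact absurd (by simpa using congrArg Units.val hg) hne
  · exact Or.inr (Prod.ext e1 e2)

/-- `ab` is trivial exactly when `-1` is outside `Ω`. -/
theorem gab_eq_one_iff : S.ga * S.gb = 1 ↔ negO Q ∉ Cfsg.Omega F ⇑Q := by
  classical
  have hchi : chiPair Q S.d (S.rA * S.rB) = (-1, -1) := by rw [map_mul, S.chi_rA, S.chi_rB]; rfl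
  have hscal : ∀ (c : Fˣ) (g : O Q), (g : GL ι F) = GeneralLinearGroup.scalar ι c → g = 1 ∨ g = negO Q := by
    intro c g hg
    have h := S.mult_oS g
    have h' : oS Q g = scalarS Q c := Subtype.ext hg
    rw [h'] at h
    have hcc : (c : F) * c = 1 := by rw [← S.mult_scalarS, h]; rfl
    rcases mul_self_eq_one_iff.1 hcc with e | e
    · exact Or.inl (Subtype.ext (hg.trans (by rw [show c = 1 from Units.ext e, map_one]; rfl)))
    · exact Or.inr (Subtype.ext (hg.trans (by rw [show c = -1 from Units.ext e]; rfl)))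
  rw [ga, gb, ← map_mul, ← map_mul, QuotientGroup.mk'_apply, QuotientGroup.eq_one_iff, S.mem_nrm]
  constructor
  · rintro ⟨c, s, hs⟩ hneg
    have hcs : ((S.rA * S.rB * (s : O Q)⁻¹ : O Q) : GL ι F) = GeneralLinearGroup.scalar ι c := by
      show ((S.rA * S.rB : O Q) : GL ι F) * ((s : O Q) : GL ι F)⁻¹ = _
      rw [show ((S.rA * S.rB : O Q) : GL ι F) = _ from hs, mul_inv_cancel_right]
    have hm : S.rA * S.rB ∈ Cfsg.Omega F ⇑Q := by
      rcases hscal c _ hcs with e | e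
      · rw [mul_inv_eq_iff_eq_mul.1 e, one_mul]; exact s.2
      · rw [mul_inv_eq_iff_eq_mul.1 e]; exact mul_mem hneg s.2
    rw [CfsgLib.OrthOmega.mem_omega_odd S.hQ S.h2 S.hd, hchi] at hm
    exact absurd hm (by decide)
  · intro hneg
    have hdet : detHom Q (negO Q) = 1 := by
      apply Units.ext
      show (Matrix.scalar ι ((-1 : Fˣ) : F)).det = 1
      rw [Matrix.scalar_apply, det_diagonal, Finset.prod_const, Finset.card_univ, S.hM, pow_mul]
      simp
    have hneg' : chiPair Q S.d (negO Q) = (-1, -1) := by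
      rcases S.chi_of_det_one hdet with h | h
      · exact absurd ((CfsgLib.OrthOmega.mem_omega_odd S.hQ S.h2 S.hd _).2 h) hneg
      · exact h
    refine ⟨-1, ⟨negO Q * (S.rA * S.rB), (CfsgLib.OrthOmega.mem_omega_odd S.hQ S.h2 S.hd _).2
      (by rw [map_mul, hneg', hchi]; decide)⟩, ?_⟩
    show _ = GeneralLinearGroup.scalar ι (-1) * (GeneralLinearGroup.scalar ι (-1) * ((S.rA * S.rB : O Q) : GL ι F))
    rw [← mul_assoc, ← map_mul, show (-1 : Fˣ) * -1 = 1 by simp, map_one, one_mul]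
    rfl

end SimData

end CfsgLib.POmegaSim
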