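import Cfsg.Agent.Lib.POmegaSim.Extend
import Cfsg.Agent.Lib.IsomConj.Bilin
import Cfsg.Agent.Lib.OrthOmega.Adjust

/-!
The commutative algebra generated by an isometry of odd order prime to the characteristic, with the
adjoint involution; an isometry commuting with it with both spinor characters equal to `-1`.
-/

set_option autoImplicit false
set_option linter.unusedSectionVars false

namespace CfsgLib.POmegaSim

open Matrix QuadraticMap CfsgLib.Orth CfsgLib.IsomConj
open LinearMap (BilinForm)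

variable {F : Type*} [Field F] {ι : Type} [Fintype ι] [DecidableEq ι] {Q : QuadraticForm F (ι → F)}

/-- The matrix of an isometry. -/
abbrev mat (g : O Q) : Matrix ι ι F := ((g : GL ι F) : Matrix ι ι F)

theorem mat_one : mat (1 : O Q) = 1 := rfl

theorem mat_mul (g h : O Q) : mat (g * h) = mat g * mat h := rfl

theorem mat_pow (g : O Q) (n : ℕ) : mat (g ^ n) = mat g ^ n := by
  induction n with
  | zero => rfl
  | succ n ih => rw [pow_succ, mat_mul, ih, pow_succ]

/-- The Gram matrix. -/
noncomputable abbrev gramM (Q : QuadraticForm F (ι → F)) : Matrix ι ι F := BilinForm.toMatrix' Q.polarBilin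

theorem polar_eq_dot (u v : ι → F) : polar Q u v = u ⬝ᵥ gramM Q *ᵥ v := by
  rw [← Matrix.toBilin'_apply', Matrix.toBilin'_toMatrix']
  rfl

/-- The adjoint. -/
noncomputable def tau (Q : QuadraticForm F (ι → F)) (M : Matrix ι ι F) : Matrix ι ι F :=
  (gramM Q)⁻¹ * Mᵀ * gramM Q

/-- The scalars and `X` generate this ring. -/
def algX (X : Matrix ι ι F) : Subring (Matrix ι ι F) :=
  Subring.closure (insert X (Set.range fun c : F => Matrix.scalar ι c))

theorem X_mem (X : Matrix ι ι F) : X ∈ algX X := Subring.subset_closure (Set.mem_insert _ _)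

theorem scalar_mem (X : Matrix ι ι F) (c : F) : Matrix.scalar ι c ∈ algX X :=
  Subring.subset_closure (Set.mem_insert_of_mem _ ⟨c, rfl⟩)

theorem smul_mem {X M : Matrix ι ι F} (c : F) (hM : M ∈ algX X) : c • M ∈ algX X := by
  rw [show c • M = Matrix.scalar ι c * M by rw [Matrix.scalar_apply, Matrix.smul_eq_diagonal_mul]]
  exact mul_mem (scalar_mem X c) hM

theorem algX_comm {X a b : Matrix ι ι F} (ha : a ∈ algX X) (hb : b ∈ algX X) : a * b = b * a := by
  have hgen : ∀ x ∈ insert X (Set.range fun c : F => Matrix.scalar ι c),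
      ∀ y ∈ insert X (Set.range fun c : F => Matrix.scalar ι c), x * y = y * x := by
    have hsc : ∀ (c : F) (M : Matrix ι ι F), Matrix.scalar ι c * M = M * Matrix.scalar ι c :=
      fun c M => Matrix.scalar_commute c (fun r' => mul_comm c r') M
    rintro x (rfl | ⟨c, rfl⟩) y (rfl | ⟨c', rfl⟩)
    · rfl
    · exact (hsc _ _).symm
    · exact hsc _ _
    · exact hsc _ _
  induction ha, hb using Subring.closure_induction₂ with
  | mem_mem x y hx hy => exact hgen x hx y hy
  | zero_left => simp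
  | zero_right => simp
  | one_left => simp
  | one_right => simp
  | neg_left x y _ _ h => simp [h]
  | neg_right x y _ _ h => simp [h]
  | add_left x y z _ _ _ h h' => simp [add_mul, mul_add, h, h']
  | add_right x y z _ _ _ h h' => simp [add_mul, mul_add, h, h']
  | mul_left x y z _ _ _ h h' => rw [mul_assoc, h', ← mul_assoc, h, mul_assoc]
  | mul_right x y z _ _ _ h h' => rw [← mul_assoc, h, mul_assoc, h', mul_assoc]

section Adjoint

variable (hQ : Q.polarBilin.Nondegenerate)
include hQ

theorem isUnit_det_gramM : IsUnit (gramM Q).det := by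
  rw [isUnit_iff_ne_zero, ← BilinForm.nondegenerate_toBilin'_iff_det_ne_zero, Matrix.toBilin'_toMatrix']
  exact hQ

theorem gram_inv_mul : (gramM Q)⁻¹ * gramM Q = 1 := Matrix.nonsing_inv_mul _ (isUnit_det_gramM hQ)

theorem gram_mul_inv : gramM Q * (gramM Q)⁻¹ = 1 := Matrix.mul_nonsing_inv _ (isUnit_det_gramM hQ)

theorem gram_transpose : (gramM Q)ᵀ = gramM Q := by
  ext i j
  simp [gramM, LinearMap.BilinForm.toMatrix'_apply, QuadraticMap.polar_comm]

theorem polar_mulVec (M : Matrix ι ι F) (u v : ι → F) : polar Q (M *ᵥ u) v = polar Q u (tau Q M *ᵥ v) := by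
  rw [polar_eq_dot, polar_eq_dot, tau, Matrix.mulVec_mulVec, ← mul_assoc, ← mul_assoc, gram_mul_inv hQ,
    one_mul, ← Matrix.mulVec_mulVec, dotProduct_mulVec u Mᵀ, Matrix.vecMul_transpose]

theorem ext_polar {M N : Matrix ι ι F} (h : ∀ u v, polar Q u (M *ᵥ v) = polar Q u (N *ᵥ v)) : M = N :=
  Matrix.ext_of_mulVec_single fun j => sub_eq_zero.1 <| hQ.2 _ fun u => by
    show polar Q u _ = 0
    rw [polar_sub_right, h, sub_self]

theorem tau_add (a b : Matrix ι ι F) : tau Q (a + b) = tau Q a + tau Q b := by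
  simp only [tau, transpose_add, mul_add, add_mul]

theorem tau_mul (a b : Matrix ι ι F) : tau Q (a * b) = tau Q b * tau Q a := by
  simp only [tau, transpose_mul, mul_assoc]
  rw [← mul_assoc (gramM Q) (gramM Q)⁻¹, gram_mul_inv hQ, one_mul]

theorem tau_tau (a : Matrix ι ι F) : tau Q (tau Q a) = a := by
  simp only [tau, transpose_mul, transpose_transpose, Matrix.transpose_nonsing_inv, gram_transpose hQ]
  rw [mul_assoc, mul_assoc, mul_assoc, gram_inv_mul hQ, mul_one, ← mul_assoc, gram_inv_mul hQ, one_mul]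

theorem tau_sub (a b : Matrix ι ι F) : tau Q (a - b) = tau Q a - tau Q b := by
  simp only [tau, transpose_sub, mul_sub, sub_mul]

theorem tau_scalar (c : F) : tau Q (Matrix.scalar ι c) = Matrix.scalar ι c := by
  simp only [tau, Matrix.scalar_apply, Matrix.diagonal_transpose]
  rw [← Matrix.smul_one_eq_diagonal, mul_smul_comm, mul_one, smul_mul_assoc, gram_inv_mul hQ]

theorem tau_one : tau Q 1 = 1 := by rw [← map_one (Matrix.scalar ι (α := F)), tau_scalar hQ]

theorem tau_smul (c : F) (a : Matrix ι ι F) : tau Q (c • a) = c • tau Q a := by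
  simp only [tau, transpose_smul, mul_smul_comm, smul_mul_assoc]

theorem tau_mat (g : O Q) : tau Q (mat g) * mat g = 1 :=
  ext_polar hQ fun u v => by
    rw [← Matrix.mulVec_mulVec, ← polar_mulVec hQ, Matrix.one_mulVec]
    exact polar_app g u v

theorem tau_movedProj (g : O Q) {r : ℕ} (hg : mat g ^ r = 1) :
    tau Q (movedProj r (mat g)) = movedProj r (mat g) := by
  have hB : (mat g)ᵀ * gramM Q * mat g = gramM Q := by
    have h := congrArg (gramM Q * ·) (tau_mat hQ g)
    simp only [tau, ← mul_assoc, gram_mul_inv hQ, one_mul, mul_one] at h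
    exact h
  rw [tau, mul_assoc, transpose_movedProj_mul hB hg, ← mul_assoc, gram_inv_mul hQ, one_mul]

theorem tau_mat_eq (g : O Q) {r : ℕ} (hr : r ≠ 0) (hg : mat g ^ r = 1) :
    tau Q (mat g) = mat g ^ (r - 1) := by
  calc tau Q (mat g) = tau Q (mat g) * (mat g * mat g ^ (r - 1)) := by
        rw [← pow_succ', Nat.sub_add_cancel (Nat.pos_of_ne_zero hr), hg, mul_one]
    _ = _ := by rw [← mul_assoc, tau_mat hQ, one_mul]

theorem tau_mem (g : O Q) {r : ℕ} (hr : r ≠ 0) (hg : mat g ^ r = 1) :
    ∀ a ∈ insert (mat g) (Set.range fun c : F => Matrix.scalar ι c), tau Q a ∈ algX (mat g) := by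
  rintro a (rfl | ⟨c, rfl⟩)
  · rw [tau_mat_eq hQ g hr hg]
    exact pow_mem (X_mem _) _
  · rw [tau_scalar hQ]
    exact scalar_mem _ c

theorem tau_mem_algX (g : O Q) {r : ℕ} (hr : r ≠ 0) (hg : mat g ^ r = 1) {a : Matrix ι ι F}
    (ha : a ∈ algX (mat g)) : tau Q a ∈ algX (mat g) := by
  induction ha using Subring.closure_induction with
  | mem x hx => exact tau_mem hQ g hr hg x hx
  | zero => simp [tau]
  | one => rw [tau_one hQ]; exact one_mem _
  | add x y _ _ hx hy => rw [tau_add hQ]; exact add_mem hx hy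
  | neg x _ hx => rw [← zero_sub x, tau_sub hQ]; exact sub_mem (by simp [tau]) hx
  | mul x y _ _ hx hy => rw [tau_mul hQ]; exact mul_mem hy hx

theorem tau_pow (a : Matrix ι ι F) (n : ℕ) : tau Q (a ^ n) = tau Q a ^ n := by
  induction n with
  | zero => exact tau_one hQ
  | succ n ih => rw [pow_succ, tau_mul hQ, ih, ← pow_succ']

end Adjoint

theorem movedProj_mul_self {X : Matrix ι ι F} {r : ℕ} (hodd : Odd r) (hX : X ^ r = 1) :
    movedProj r (X * X) = movedProj r X := by
  show (1 : Matrix ι ι F) - _ • _ = 1 - _ • _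
  congr 2
  have hmod : ∀ m : ℕ, X ^ m = X ^ (m % r) := fun m => by
    conv_lhs => rw [← Nat.mod_add_div m r, pow_add, pow_mul, hX, one_pow, mul_one]
  obtain ⟨j, hj⟩ := hodd
  refine Finset.sum_nbij' (fun i => 2 * i % r) (fun i => (j + 1) * i % r) ?_ ?_ ?_ ?_ ?_
  · intro i hi
    exact Finset.mem_range.2 (Nat.mod_lt _ (by omega))
  · intro i hi
    exact Finset.mem_range.2 (Nat.mod_lt _ (by omega))
  · intro i hi
    show (j + 1) * (2 * i % r) % r = i
    rw [Nat.mul_mod_mod, show (j + 1) * (2 * i) = i + r * i by rw [hj]; ring, Nat.add_mul_mod_self_left,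
      Nat.mod_eq_of_lt (Finset.mem_range.1 hi)]
  · intro i hi
    show 2 * ((j + 1) * i % r) % r = i
    rw [Nat.mul_mod_mod, show 2 * ((j + 1) * i) = i + r * i by rw [hj]; ring, Nat.add_mul_mod_self_left,
      Nat.mod_eq_of_lt (Finset.mem_range.1 hi)]
  · intro i _
    show (X * X) ^ i = X ^ (2 * i % r)
    rw [← hmod, pow_mul, pow_two]

/-- Every element of the algebra is fixed by a power of the Frobenius map. -/
theorem exists_pow_eq_self [Fintype F] [Nonempty ι] {X : Matrix ι ι F} {r : ℕ} (hr : (r : F) ≠ 0)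
    (hr1 : 1 < r) (hX : X ^ r = 1) : ∃ N : ℕ, 2 ≤ N ∧ ∀ z ∈ algX X, z ^ N = z := by
  obtain ⟨p, hp⟩ := CharP.exists F
  obtain ⟨n, hp', hF⟩ := FiniteField.card F p
  have : Fact p.Prime := ⟨hp'⟩
  have : CharP (Matrix ι ι F) p := charP_of_injective_ringHom (f := Matrix.scalar ι) (fun a b h => (Matrix.scalar_inj (n := ι) (α := F)).1 h) p
  have hcop : (Fintype.card F).Coprime r := by
    rw [hF]
    exact Nat.Coprime.pow_left _ ((hp'.coprime_iff_not_dvd).2 fun h => hr ((CharP.cast_eq_zero_iff F p r).2 h))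
  set N := Fintype.card F ^ r.totient with hN
  have hNp : N = p ^ ((n : ℕ) * r.totient) := by rw [hN, hF, pow_mul]
  have htot : r.totient ≠ 0 := (Nat.totient_pos.2 (by omega)).ne'
  refine ⟨N, (Fintype.one_lt_card (α := F)).trans_le (Nat.le_self_pow htot _), fun z hz => ?_⟩
  induction hz using Subring.closure_induction with
  | mem x hx =>
    rcases hx with rfl | ⟨c, rfl⟩
    · conv_lhs => rw [← Nat.mod_add_div N r, pow_add, pow_mul, hX, one_pow, mul_one]
      rw [hN, Nat.ModEq.pow_totient hcop, Nat.mod_eq_of_lt hr1, pow_one]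
    · rw [← map_pow, hN, FiniteField.pow_card_pow]
  | zero => exact zero_pow (by rw [hNp]; exact pow_ne_zero _ hp'.ne_zero)
  | one => exact one_pow _
  | add x y hx' hy' hx hy =>
    rw [hNp, add_pow_char_pow_of_commute p ((n : ℕ) * r.totient) (algX_comm hx' hy'), ← hNp, hx, hy]
  | neg x hx' hx =>
    have h := add_pow_char_pow_of_commute p ((n : ℕ) * r.totient)
      ((Commute.refl x).neg_right)
    rw [add_neg_cancel, zero_pow (pow_ne_zero _ hp'.ne_zero), ← hNp, hx] at h
    exact (neg_eq_of_add_eq_zero_right h.symm).symm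
  | mul x y hx' hy' hx hy => rw [(show Commute x y from algX_comm hx' hy').mul_pow, hx, hy]

section Core

variable [Fintype F]

/-- The inverse partner of `X - τX` on the moved space. -/
theorem exists_skew_inverse (hQ : Q.polarBilin.Nondegenerate) (s : O Q) {r : ℕ} (hr : (r : F) ≠ 0)
    (hodd : Odd r) (hs : mat s ^ r = 1) :
    ∃ w ∈ algX (mat s), (mat s - tau Q (mat s)) * w = movedProj r (mat s) := by
  refine ⟨mat s * movedInv r (mat s * mat s), mul_mem (X_mem _)
    (smul_mem _ (sum_mem fun i _ => smul_mem _ (pow_mem (mul_mem (X_mem _) (X_mem _)) i))), ?_⟩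
  rw [← mul_assoc, sub_mul, tau_mat hQ, sub_one_mul_movedInv hr
    (by rw [← pow_two, ← pow_mul, mul_comm, pow_mul, hs, one_pow]), movedProj_mul_self hodd hs]

theorem movedProj_mem {X : Matrix ι ι F} (r : ℕ) : movedProj r X ∈ algX X :=
  sub_mem (one_mem _) (smul_mem _ (sum_mem fun i _ => pow_mem (X_mem X) i))

/-- An invariant unit is a norm on the range of an idempotent below the moved projection. -/
theorem exists_norm_on (hQ : Q.polarBilin.Nondegenerate) (s : O Q) {r : ℕ} (hr : (r : F) ≠ 0)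
    (hodd : Odd r) (hs : mat s ^ r = 1) {E u : Matrix ι ι F} (hE : E ∈ algX (mat s)) (hEE : E * E = E)
    (hEt : tau Q E = E) (hEe : E * movedProj r (mat s) = E) (hu : u ∈ algX (mat s)) (hu1 : IsUnit u)
    (hut : tau Q u = u) :
    ∃ a : (Matrix ι ι F)ˣ, (a : Matrix ι ι F) ∈ algX (mat s) ∧ E * (tau Q a * a) = E * u := by
  obtain ⟨w, hw, hw'⟩ := exists_skew_inverse hQ s hr hodd hs
  exact exists_star_mul_self_idem (tau Q) (tau_add hQ) (tau_mul hQ) (tau_tau hQ)
    (insert (mat s) (Set.range fun c : F => Matrix.scalar ι c))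
    (fun a ha b hb => algX_comm (Subring.subset_closure ha) (Subring.subset_closure hb))
    (tau_mem hQ s (fun h => hr (by rw [h, Nat.cast_zero])) hs) E hE hEE hEt (mat s) (w * E) (X_mem _)
    (mul_mem hw hE)
    (by rw [← mul_assoc, hw', algX_comm (movedProj_mem r) hE, hEe]) u hu hu1 hut

/-- A minimal invariant idempotent below the moved projection; it cuts out a field. -/
theorem exists_component (hQ : Q.polarBilin.Nondegenerate) (s : O Q) {r : ℕ} (hr : (r : F) ≠ 0)
    (hr1 : 1 < r) (hs : mat s ^ r = 1) (hne : s ≠ 1) :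
    ∃ E ∈ algX (mat s), E * E = E ∧ tau Q E = E ∧ E * movedProj r (mat s) = E ∧ E ≠ 0 ∧
      ∀ z ∈ algX (mat s), tau Q z = z → E * z = z → z ≠ 0 →
        ∃ z' ∈ algX (mat s), tau Q z' = z' ∧ E * z' = z' ∧ z' * z = E := by
  classical
  have : Nonempty ι := by
    by_contra h
    rw [not_nonempty_iff] at h
    exact hne (ext_app fun x => Subsingleton.elim _ _)
  set X := mat s
  set e := movedProj r X
  have he : e * e = e := movedProj_idem hr hs
  have he0 : e ≠ 0 := fun h => hne (Subtype.ext (Units.ext (by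
    have h1 := mul_one_sub_movedProj hs
    rw [show movedProj r X = 0 from h, sub_zero, mul_one] at h1
    exact h1)))
  obtain ⟨N, hN, hpow⟩ := exists_pow_eq_self hr hr1 hs
  let cand : Finset (Matrix ι ι F) := Finset.univ.filter fun f =>
    f ∈ algX X ∧ f * f = f ∧ tau Q f = f ∧ f * e = f ∧ f ≠ 0
  obtain ⟨E, hE, hmin⟩ := Finset.exists_min_image cand
    (fun f => (Finset.univ.filter fun z : Matrix ι ι F => f * z = z).card)
    ⟨e, by simp [cand, e, X, he, he0, movedProj_mem, tau_movedProj hQ s hs]⟩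
  simp only [cand, Finset.mem_filter, Finset.mem_univ, true_and] at hE
  obtain ⟨hE1, hE2, hE3, hE4, hE5⟩ := hE
  refine ⟨E, hE1, hE2, hE3, hE4, hE5, fun z hz hzt hzE hz0 => ?_⟩
  set f := z ^ (N - 1)
  have hfm : f ∈ algX X := pow_mem hz _
  have hNN : N - 1 + 1 = N := by omega
  have hfz : f * z = z := by rw [← pow_succ, hNN, hpow z hz]
  have hz1 : f = z * z ^ (N - 2) := by
    rw [← pow_succ']
    exact congrArg (z ^ ·) (by omega : N - 1 = N - 2 + 1)
  have hff : f * f = f := by
    conv_lhs => arg 2; rw [hz1]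
    rw [← mul_assoc, hfz, ← hz1]
  have hEf : E * f = f := by rw [hz1, ← mul_assoc, hzE]
  have hft : tau Q f = f := by rw [tau_pow hQ, hzt]
  have hfe : f * e = f := by rw [← hEf, mul_assoc, algX_comm hfm (movedProj_mem r), ← mul_assoc, hE4]
  have hf0 : f ≠ 0 := fun h => hz0 (by rw [← hfz, h, zero_mul])
  have hfE : f = E := by
    by_contra hne'
    have hfE' : f * E ≠ E := fun h => hne' (by rw [← h, algX_comm hfm hE1, hEf])
    have h := hmin f (by simp [cand, hfm, hff, hft, hfe, hf0])
    refine absurd h (not_le.2 (Finset.card_lt_card ?_))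
    rw [Finset.ssubset_iff_of_subset]
    · exact ⟨E, by simp [hE2], by simp [hfE']⟩
    · intro x hx
      simp only [Finset.mem_filter, Finset.mem_univ, true_and] at hx ⊢
      rw [← hx, ← mul_assoc, hEf]
  refine ⟨E * z ^ (N - 2), mul_mem hE1 (pow_mem hz _), ?_, ?_, ?_⟩
  · rw [tau_mul hQ, tau_pow hQ, hzt, hE3, algX_comm (pow_mem hz _) hE1]
  · rw [← mul_assoc, hE2]
  · rw [mul_assoc, ← pow_succ, show N - 2 + 1 = N - 1 by omega]
    show E * f = E
    rw [hEf, hfE]

end Core

end CfsgLib.POmegaSim
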