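import Cfsg.Agent.Lib.POmegaSim.SemiAlg
import Cfsg.Agent.Lib.POmegaSim.Graph

/-!
The centraliser of a semisimple isometry of odd order meets both non-trivial kinds of classes of
class-preserving similarities: one with non-square multiplier, one with both spinor characters `-1`.
-/

set_option autoImplicit false
set_option linter.unusedSectionVars false

namespace CfsgLib.POmegaSim

open Matrix QuadraticMap CfsgLib.Orth CfsgLib.IsomConj CfsgLib.OrthOmega
open LinearMap (BilinForm)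

variable {F : Type*} [Field F] [Fintype F] {ι : Type} [Fintype ι] [DecidableEq ι]
  {Q : QuadraticForm F (ι → F)}

theorem polar_self_two (v : ι → F) : polar Q v v = 2 * Q v := by
  rw [QuadraticMap.polar_self, nsmul_eq_mul, Nat.cast_ofNat]

/-- An isometry commuting with `s` with both spinor characters `-1`. -/
theorem exists_commute_both (hQ : Q.polarBilin.Nondegenerate) (h2 : (2 : F) ≠ 0) [DecidableEq F] {d : F}
    (hd : ¬ IsSquare d) (s : O Q) {r : ℕ} (hr : (r : F) ≠ 0) (hodd : Odd r) (hr1 : 1 < r)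
    (hsr : mat s ^ r = 1) (hne : s ≠ 1) : ∃ h : O Q, Commute h s ∧ chiPair Q d h = (-1, -1) := by
  classical
  have hr0 : r ≠ 0 := by omega
  obtain ⟨E, hEm, hEE, hEt, hEe, hE0, hinv⟩ := exists_component hQ s hr hr1 hsr hne
  obtain ⟨w₀, hw₀, hw₀'⟩ := exists_skew_inverse hQ s hr hodd hsr
  set X := mat s
  set A := algX X
  have hc : ∀ {a b : Matrix ι ι F}, a ∈ A → b ∈ A → a * b = b * a := fun ha hb => algX_comm ha hb
  have htm : ∀ {a : Matrix ι ι F}, a ∈ A → tau Q a ∈ A := fun ha => tau_mem_algX hQ s hr0 hsr ha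
  -- an anisotropic vector in the component
  obtain ⟨v, hvE, hv⟩ := exists_anisotropic_sub (Q := Q) (LinearMap.range (Matrix.mulVecLin E))
    (fun x hx hperp => hQ.1 x fun y => by
      obtain ⟨x', rfl⟩ := hx
      show polar Q (E *ᵥ x') y = 0
      rw [← hEE, ← Matrix.mulVec_mulVec, polar_mulVec hQ, hEt]
      exact hperp _ ⟨y, rfl⟩)
    (by
      rw [Nat.one_le_iff_ne_zero, Ne, Submodule.finrank_eq_zero]
      intro h
      refine hE0 (Matrix.ext_of_mulVec_single fun j => ?_)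
      rw [Matrix.zero_mulVec]
      exact (Submodule.mem_bot F).1 (h ▸ ⟨_, rfl⟩))
  obtain ⟨v', rfl⟩ := hvE
  set v := E *ᵥ v' with hvdef
  change Q v ≠ 0 at hv
  have hEv : E *ᵥ v = v := by rw [hvdef, Matrix.mulVec_mulVec, hEE]
  let φ : Matrix ι ι F →ₗ[F] F :=
    (Q.polarBilin v).comp (LinearMap.applyₗ v |>.comp (Matrix.toLin' (R := F) (n := ι) (m := ι)).toLinearMap)
  have hφ : ∀ z, φ z = polar Q v (z *ᵥ v) := fun z => rfl
  have hφt : ∀ z, φ (tau Q z) = φ z := fun z => by
    rw [hφ, hφ, ← polar_mulVec hQ, QuadraticMap.polar_comm]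
  have hφE : φ E = 2 * Q v := by rw [hφ, hEv, polar_self_two]
  have hφE0 : φ E ≠ 0 := by rw [hφE]; exact mul_ne_zero h2 hv
  -- the component
  let K : Submodule F (Matrix ι ι F) :=
    { carrier := {z | z ∈ A ∧ E * z = z}
      zero_mem' := ⟨zero_mem _, mul_zero _⟩
      add_mem' := fun ha hb => ⟨add_mem ha.1 hb.1, by rw [mul_add, ha.2, hb.2]⟩
      smul_mem' := fun c z hz => ⟨smul_mem c hz.1, by rw [mul_smul_comm, hz.2]⟩ }
  have hmemK : ∀ z, z ∈ K ↔ z ∈ A ∧ E * z = z := fun z => Iff.rfl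
  let Kp : Submodule F (Matrix ι ι F) :=
    { carrier := {z | z ∈ K ∧ tau Q z = z}
      zero_mem' := ⟨zero_mem _, by simp [tau]⟩
      add_mem' := fun ha hb => ⟨add_mem ha.1 hb.1, by rw [tau_add hQ, ha.2, hb.2]⟩
      smul_mem' := fun c z hz => ⟨K.smul_mem c hz.1, by rw [tau_smul hQ, hz.2]⟩ }
  have hEKp : E ∈ Kp := ⟨⟨hEm, hEE⟩, hEt⟩
  let e := (Module.finBasis F ↥K).equivFun.symm
  let L : (Fin (Module.finrank F ↥K) → F) →ₗ[F] (ι → F) :=
    (LinearMap.applyₗ v ∘ₗ (Matrix.toLin' (R := F) (n := ι) (m := ι)).toLinearMap) ∘ₗ K.subtype ∘ₗ e.toLinearMap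
  have hL : ∀ c, L c = (e c : Matrix ι ι F) *ᵥ v := fun c => rfl
  have hpol : ∀ c c', polar Q (L c) (L c') = φ (tau Q (e c : Matrix ι ι F) * (e c' : Matrix ι ι F)) := fun c c' => by
    rw [hL, hL, polar_mulVec hQ, Matrix.mulVec_mulVec, hφ]
  have hpair : ∀ k ∈ K, k ≠ 0 → ∃ k' ∈ K, φ (tau Q k * k') ≠ 0 := by
    rintro k ⟨hk, hkE⟩ hk0
    set l := tau Q k
    have hl : l ∈ A := htm hk
    have hlE : E * l = l := by
      rw [hc hEm hl, ← hEt, ← tau_mul hQ, hkE]
    by_cases hs0 : l + tau Q l = 0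
    · set m := l * (X - tau Q X) with hm
      have hXm : X - tau Q X ∈ A := sub_mem (X_mem _) (htm (X_mem _))
      have hlt : tau Q l = -l := eq_neg_of_add_eq_zero_right hs0
      have hmt : tau Q m = m := by
        rw [hm, tau_mul hQ, tau_sub hQ, tau_tau hQ, hlt, mul_neg, ← neg_mul, neg_sub, hc hXm hl]
      have hmE : E * m = m := by rw [hm, ← mul_assoc, hlE]
      have hm0 : m ≠ 0 := fun h => hk0 <| by
        have h1 : l * movedProj r X = l := by
          rw [← hlE, mul_assoc, hc hl (movedProj_mem r), ← mul_assoc, hEe]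
        rw [← tau_tau hQ k, show tau Q k = l from rfl, ← h1, ← hw₀', ← mul_assoc, ← hm, h, zero_mul]
        simp [tau]
      obtain ⟨m', hm', -, hm'E, hmm⟩ := hinv m (mul_mem hl hXm) hmt hmE hm0
      refine ⟨(X - tau Q X) * m', ⟨mul_mem hXm hm', ?_⟩, ?_⟩
      · rw [← mul_assoc, hc hEm hXm, mul_assoc, hm'E]
      · rw [← mul_assoc, ← hm, hc (mul_mem hl hXm) hm', hmm]
        exact hφE0
    · obtain ⟨z, hz, hzt, hzE, hzz⟩ := hinv (l + tau Q l) (add_mem hl (htm hl))
        (by rw [tau_add hQ, tau_tau hQ, add_comm]) (by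
          rw [mul_add, hlE, show tau Q l = k from tau_tau hQ k, hkE]) hs0
      refine ⟨z, ⟨hz, hzE⟩, fun h => hφE0 ?_⟩
      have h' : φ (tau Q l * z) = 0 := by
        rw [← hφt, tau_mul hQ, tau_tau hQ, hzt, hc hz hl]; exact h
      rw [← hzz, hc hz (add_mem hl (htm hl)), add_mul, map_add, h, h', add_zero]
  have hLnd : (Q.comp L).polarBilin.Nondegenerate := by
    have key : ∀ c, (∀ c', polar (Q.comp L) c c' = 0) → c = 0 := fun c hc0 => by
      by_contra hne'
      obtain ⟨k', hk', hk''⟩ := hpair (e c : Matrix ι ι F) (e c).2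
        (fun h => hne' (e.injective (Subtype.ext (by rw [map_zero]; exact h))))
      have := hc0 (e.symm ⟨k', hk'⟩)
      rw [polar_comp, hpol, e.apply_symm_apply] at this
      exact hk'' this
    exact ⟨key, fun c hc0 => key c fun c' => by rw [QuadraticMap.polar_comm]; exact hc0 c'⟩
  have hQL : ∀ c, 2 * Q.comp L c = φ (tau Q (e c : Matrix ι ι F) * (e c : Matrix ι ι F)) := fun c => by
    rw [← hpol, polar_self_two, QuadraticMap.comp_apply]
  -- norm one elements
  let C : Subgroup (Matrix ι ι F)ˣ :=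
    { carrier := {a | (a : Matrix ι ι F) ∈ A ∧ tau Q (a : Matrix ι ι F) * a = 1 ∧ (1 - E) * a = 1 - E}
      one_mem' := ⟨one_mem _, by rw [Units.val_one, mul_one, tau_one hQ], mul_one _⟩
      mul_mem' := fun {a b} ha hb => ⟨mul_mem ha.1 hb.1, by
        rw [Units.val_mul, tau_mul hQ, mul_assoc, ← mul_assoc (tau Q (a : Matrix ι ι F)), ha.2.1, one_mul, hb.2.1],
        by rw [Units.val_mul, ← mul_assoc, ha.2.2, hb.2.2]⟩
      inv_mem' := fun {a} ha => by
        have hi : ((a⁻¹ : (Matrix ι ι F)ˣ) : Matrix ι ι F) = tau Q (a : Matrix ι ι F) :=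
          (left_inv_eq_right_inv ha.2.1 a.mul_inv).symm
        refine ⟨hi ▸ htm ha.1, ?_, ?_⟩
        · rw [hi, tau_tau hQ, hc ha.1 (htm ha.1), ha.2.1]
        · rw [hi]
          calc (1 - E) * tau Q (a : Matrix ι ι F) = tau Q ((1 - E) * (a : Matrix ι ι F)) := by
                rw [tau_mul hQ, tau_sub hQ, tau_one hQ, hEt, hc (htm ha.1) (sub_mem (one_mem _) hEm)]
            _ = 1 - E := by rw [ha.2.2, tau_sub hQ, tau_one hQ, hEt] }
  have hmemC : ∀ a, a ∈ C ↔ (a : Matrix ι ι F) ∈ A ∧ tau Q (a : Matrix ι ι F) * a = 1 ∧ (1 - E) * a = 1 - E :=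
    fun a => Iff.rfl
  let instC : CommGroup ↥C :=
    { mul_comm := fun a b => Subtype.ext (Units.ext (hc ((hmemC _).1 a.2).1 ((hmemC _).1 b.2).1)) }
  have hnn : (1 - (2 : F) • E) * (1 - (2 : F) • E) = 1 := by
    rw [sub_mul, one_mul, mul_sub, mul_one, smul_mul_smul_comm, hEE]
    module
  let n : ↥C := ⟨⟨1 - (2 : F) • E, 1 - (2 : F) • E, hnn, hnn⟩, sub_mem (one_mem _) (smul_mem _ hEm), by
      show tau Q (1 - (2 : F) • E) * (1 - (2 : F) • E) = 1
      rw [tau_sub hQ, tau_one hQ, tau_smul hQ, hEt, hnn], by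
      show (1 - E) * (1 - (2 : F) • E) = 1 - E
      rw [mul_sub, mul_one, mul_smul_comm, sub_mul, one_mul, hEE, sub_self, smul_zero, sub_zero]⟩
  have hn1 : n ≠ 1 := fun h => hE0 <| by
    have h' : 1 - (2 : F) • E = 1 := congrArg (fun a : ↥C => ((a : (Matrix ι ι F)ˣ) : Matrix ι ι F)) h
    exact (smul_eq_zero.1 (sub_eq_self.1 h')).resolve_left h2
  obtain ⟨u, k, m, hm, hcard, hu1, hun⟩ := exists_max_two_power (n := n) hn1 (Subtype.ext (Units.ext hnn))
    fun a ha => by
      obtain ⟨haA, hat, haE⟩ := (hmemC _).1 a.2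
      set av : Matrix ι ι F := ((a : (Matrix ι ι F)ˣ) : Matrix ι ι F)
      have haa : av * av = 1 := congrArg (fun z : ↥C => ((z : (Matrix ι ι F)ˣ) : Matrix ι ι F)) ha
      have hta : tau Q av = av := left_inv_eq_right_inv hat haa
      have hsplit : av = E * av + (1 - E) := by rw [← haE]; noncomm_ring
      set z := E * av - E
      by_cases hz0 : z = 0
      · left
        refine Subtype.ext (Units.ext ?_)
        show av = 1
        rw [hsplit, sub_eq_zero.1 hz0]
        abel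
      · right
        obtain ⟨z', -, -, -, hzz⟩ := hinv z (sub_mem (mul_mem hEm haA) hEm)
          (by rw [tau_sub hQ, tau_mul hQ, hta, hEt, hc haA hEm])
          (by rw [mul_sub, ← mul_assoc, hEE]) hz0
        have hprod : z * (E * av + E) = 0 := by
          have h1 : E * av * (E * av) = E := by
            rw [mul_assoc, ← mul_assoc av, hc haA hEm, mul_assoc E av av, haa, mul_one, hEE]
          have h2' : E * av * E = E * av := by rw [mul_assoc, hc haA hEm, ← mul_assoc, hEE]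
          have h3 : E * (E * av) = E * av := by rw [← mul_assoc, hEE]
          simp only [z, mul_add, sub_mul, h1, h2', h3, hEE]
          abel
        have h0 : E * (E * av + E) = 0 :=
          calc E * (E * av + E) = z' * z * (E * av + E) := by rw [hzz]
            _ = 0 := by rw [mul_assoc, hprod, mul_zero]
        rw [mul_add, ← mul_assoc, hEE] at h0
        refine Subtype.ext (Units.ext ?_)
        show av = 1 - (2 : F) • E
        rw [hsplit, eq_neg_of_add_eq_zero_left h0, two_smul]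
        abel
  -- multiplication by the elements of the algebra in coordinates
  let mulK : ∀ z ∈ A, (Fin (Module.finrank F ↥K) → F) →ₗ[F] (Fin (Module.finrank F ↥K) → F) := fun z hz =>
    e.symm.toLinearMap ∘ₗ (((LinearMap.mulLeft F z).comp K.subtype).codRestrict K fun x =>
      ⟨mul_mem hz x.2.1, by
        show E * (z * (x : Matrix ι ι F)) = z * (x : Matrix ι ι F)
        rw [← mul_assoc, hc hEm hz, mul_assoc, x.2.2]⟩) ∘ₗ e.toLinearMap
  have he_mul : ∀ z (hz : z ∈ A) c, (e (mulK z hz c) : Matrix ι ι F) = z * (e c : Matrix ι ι F) := fun z hz c => by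
    simp only [mulK, LinearMap.comp_apply, LinearEquiv.coe_coe, LinearEquiv.apply_symm_apply]
    rfl
  have hinjE : ∀ c c', (e c : Matrix ι ι F) = (e c' : Matrix ι ι F) → c = c' := fun c c' h =>
    e.injective (Subtype.ext h)
  have hmulK_mul : ∀ z (hz : z ∈ A) z' (hz' : z' ∈ A) c,
      mulK z hz (mulK z' hz' c) = mulK (z * z') (mul_mem hz hz') c := fun z hz z' hz' c =>
    hinjE _ _ (by rw [he_mul z hz, he_mul z' hz', he_mul (z * z') (mul_mem hz hz'), mul_assoc])
  have hcomp_inv : ∀ (a b : ↥C), a * b = 1 →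
      mulK _ ((hmemC _).1 a.2).1 ∘ₗ mulK _ ((hmemC _).1 b.2).1 = LinearMap.id := fun a b hab =>
    LinearMap.ext fun c => hinjE _ _ (by
      rw [LinearMap.comp_apply, he_mul _ ((hmemC _).1 a.2).1, he_mul _ ((hmemC _).1 b.2).1, ← mul_assoc]
      have : ((a : (Matrix ι ι F)ˣ) : Matrix ι ι F) * ((b : (Matrix ι ι F)ˣ) : Matrix ι ι F) = 1 :=
        congrArg (fun z : ↥C => ((z : (Matrix ι ι F)ˣ) : Matrix ι ι F)) hab
      rw [this, one_mul]
      rfl)
  let gC : ↥C →* O (Q.comp L) := MonoidHom.mk' (fun a =>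
      mkO (mulK _ ((hmemC _).1 a.2).1) (mulK _ ((hmemC _).1 (a⁻¹).2).1)
        (hcomp_inv a a⁻¹ (mul_inv_cancel a)) (hcomp_inv a⁻¹ a (inv_mul_cancel a)) fun c => by
          refine mul_left_cancel₀ h2 ?_
          rw [hQL, hQL, he_mul _ ((hmemC _).1 a.2).1, tau_mul hQ, mul_assoc,
            ← mul_assoc (tau Q ((a : (Matrix ι ι F)ˣ) : Matrix ι ι F)), ((hmemC _).1 a.2).2.1, one_mul])
    fun a b => ext_app fun c => by
      rw [app_mul, app_mkO, app_mkO, app_mkO, hmulK_mul _ ((hmemC _).1 a.2).1 _ ((hmemC _).1 b.2).1]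
      rfl
  have hgC : ∀ a c, (e (app (gC a) c) : Matrix ι ι F) = ((a : (Matrix ι ι F)ˣ) : Matrix ι ι F) * (e c : Matrix ι ι F) :=
    fun a c => by
      simp only [gC, MonoidHom.mk'_apply, app_mkO]
      rw [he_mul _ ((hmemC _).1 a.2).1]
  -- both characters
  have hsign : ∀ c : F, c ≠ 0 → chi (Q.comp L) c (gC u) = -1 := by
    intro c hc0
    set P := {w : ↥Kp // φ (w : Matrix ι ι F) = 2 * c}
    have hw0 : ∀ w : P, (w.1 : Matrix ι ι F) ≠ 0 := fun w h => by
      have := w.2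
      rw [h, map_zero] at this
      exact mul_ne_zero h2 hc0 this.symm
    have hsec : ∀ w : P, ∃ kw ∈ K, tau Q kw * kw = (w.1 : Matrix ι ι F) := by
      intro w
      obtain ⟨⟨hwA, hwE⟩, hwt⟩ := w.1.2
      obtain ⟨w', hw'A, hw't, hw'E, hww⟩ := hinv _ hwA hwt hwE (hw0 w)
      have hwE' : (w.1 : Matrix ι ι F) * E = (w.1 : Matrix ι ι F) := by rw [hc hwA hEm, hwE]
      have hE1 : E * (1 - E) = 0 := by rw [mul_sub, mul_one, hEE, sub_self]
      have hE1' : (1 - E) * E = 0 := by rw [sub_mul, one_mul, hEE, sub_self]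
      obtain ⟨a, haA, ha⟩ := exists_norm_on hQ s hr hodd hsr hEm hEE hEt hEe
        (u := (w.1 : Matrix ι ι F) + (1 - E)) (add_mem hwA (sub_mem (one_mem _) hEm))
        (IsUnit.of_mul_eq_one (w' + (1 - E)) (by
          have h1 : (w.1 : Matrix ι ι F) * (1 - E) = 0 := by rw [mul_sub, mul_one, hwE', sub_self]
          have h2' : (1 - E) * w' = 0 := by rw [sub_mul, one_mul, hw'E, sub_self]
          have h3 : (1 - E) * (1 - E) = 1 - E := by rw [mul_sub, mul_one, hE1', sub_zero]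
          rw [add_mul, mul_add, mul_add, h1, h2', h3, hc hwA hw'A, hww]
          abel))
        (by rw [tau_add hQ, tau_sub hQ, tau_one hQ, hEt, hwt])
      refine ⟨E * (a : Matrix ι ι F), ⟨mul_mem hEm haA, by rw [← mul_assoc, hEE]⟩, ?_⟩
      rw [tau_mul hQ, hEt, mul_assoc, ← mul_assoc E E, hEE, ← mul_assoc, hc (htm haA) hEm, mul_assoc, ha,
        mul_add, hwE, hE1, add_zero]
    choose kw hkw hkwn using hsec
    let f : P × ↥C → Shell (Q.comp L) c := fun p =>
      ⟨app (gC p.2) (e.symm ⟨kw p.1, hkw p.1⟩), by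
        rw [Q_app]
        refine mul_left_cancel₀ h2 ?_
        rw [hQL, e.apply_symm_apply, hkwn, p.1.2]⟩
    have hf : Function.Bijective f := by
      constructor
      · rintro ⟨w, a⟩ ⟨w', a'⟩ h
        have h1 := congrArg (fun x : Shell (Q.comp L) c => (e x.1 : Matrix ι ι F)) h
        simp only [f, hgC, e.apply_symm_apply] at h1
        have hww : w = w' := by
          refine Subtype.ext (Subtype.ext ?_)
          have h2' := congrArg (fun z => tau Q z * z) h1
          simp only [tau_mul hQ] at h2'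
          rw [mul_assoc, ← mul_assoc (tau Q ((a : (Matrix ι ι F)ˣ) : Matrix ι ι F)), ((hmemC _).1 a.2).2.1,
            one_mul, mul_assoc, ← mul_assoc (tau Q ((a' : (Matrix ι ι F)ˣ) : Matrix ι ι F)),
            ((hmemC _).1 a'.2).2.1, one_mul, hkwn, hkwn] at h2'
          exact h2'
        subst hww
        refine Prod.ext rfl (Subtype.ext (Units.ext ?_))
        show ((a : (Matrix ι ι F)ˣ) : Matrix ι ι F) = ((a' : (Matrix ι ι F)ˣ) : Matrix ι ι F)
        obtain ⟨⟨hwA, hwE⟩, hwt⟩ := w.1.2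
        obtain ⟨w', hw'A, -, -, hww'⟩ := hinv _ hwA hwt hwE (hw0 w)
        have hkE : kw w * (tau Q (kw w) * w') = E := by
          rw [← mul_assoc, hc (hkw w).1 (htm (hkw w).1), hkwn, hc hwA hw'A, hww']
        have h3 := congrArg (· * (tau Q (kw w) * w')) h1
        simp only [mul_assoc, hkE] at h3
        obtain ⟨haA, -, haE⟩ := (hmemC _).1 a.2
        obtain ⟨ha'A, -, ha'E⟩ := (hmemC _).1 a'.2
        have h4 : ((a : (Matrix ι ι F)ˣ) : Matrix ι ι F) * (1 - E) = ((a' : (Matrix ι ι F)ˣ) : Matrix ι ι F) * (1 - E) := by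
          rw [hc haA (sub_mem (one_mem _) hEm), haE, hc ha'A (sub_mem (one_mem _) hEm), ha'E]
        have h5 := congrArg₂ (· + ·) h3 h4
        simp only [← mul_add, add_sub_cancel, mul_one] at h5
        exact h5
      · intro x
        obtain ⟨hxA, hxE⟩ := (e x.1).2
        set kx : Matrix ι ι F := (e x.1 : Matrix ι ι F)
        have hNK : tau Q kx * kx ∈ Kp := ⟨⟨mul_mem (htm hxA) hxA, by
            rw [← mul_assoc, hc hEm (htm hxA), mul_assoc, hxE]⟩, by rw [tau_mul hQ, tau_tau hQ]⟩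
        let w : P := ⟨⟨_, hNK⟩, by
          show φ (tau Q kx * kx) = 2 * c
          rw [← hQL, x.2]⟩
        obtain ⟨⟨hwA, hwE⟩, hwt⟩ := w.1.2
        obtain ⟨w', hw'A, hw't, hw'E, hww'⟩ := hinv _ hwA hwt hwE (hw0 w)
        set kk := kw w
        have hkk : kk ∈ A ∧ E * kk = kk := hkw w
        have hE1' : (1 - E) * E = 0 := by rw [sub_mul, one_mul, hEE, sub_self]
        set a0 := kx * (tau Q kk * w') + (1 - E) with ha0
        have haA : a0 ∈ A := add_mem (mul_mem hxA (mul_mem (htm hkk.1) hw'A)) (sub_mem (one_mem _) hEm)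
        have hb : kx * (tau Q kk * w') * (1 - E) = 0 := by
          rw [mul_assoc, mul_assoc, mul_sub, mul_one, hc hw'A hEm, hw'E, sub_self, mul_zero, mul_zero]
        have hat : tau Q a0 * a0 = 1 := by
          have hb' : tau Q (kx * (tau Q kk * w')) * (1 - E) = 0 := by
            have := congrArg (tau Q) hb
            rw [tau_mul hQ, tau_sub hQ, tau_one hQ, hEt, hc (sub_mem (one_mem _) hEm)
              (htm (mul_mem hxA (mul_mem (htm hkk.1) hw'A)))] at this
            rw [this]; simp [tau]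
          have hmain : tau Q (kx * (tau Q kk * w')) * (kx * (tau Q kk * w')) = E := by
            rw [tau_mul hQ, tau_mul hQ, tau_tau hQ, hw't]
            calc w' * kk * tau Q kx * (kx * (tau Q kk * w'))
                = w' * (kk * (tau Q kx * kx * (tau Q kk * w'))) := by simp only [mul_assoc]
              _ = w' * (kk * ((w.1 : Matrix ι ι F) * (tau Q kk * w'))) := rfl
              _ = w' * ((w.1 : Matrix ι ι F) * (kk * tau Q kk * w')) := by
                  rw [← mul_assoc kk, hc hkk.1 hwA]; simp only [mul_assoc]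
              _ = E := by
                  rw [hc hkk.1 (htm hkk.1), hkwn, hc hwA hw'A, hww', ← mul_assoc, hww', hEE]
          rw [ha0, tau_add hQ, tau_sub hQ, tau_one hQ, hEt, add_mul, mul_add, mul_add, hmain, hb',
            hc (sub_mem (one_mem _) hEm) (mul_mem hxA (mul_mem (htm hkk.1) hw'A)), hb, mul_sub, mul_one, hE1']
          abel
        let au : (Matrix ι ι F)ˣ := ⟨a0, tau Q a0, mul_eq_one_comm.1 hat, hat⟩
        have hau : au ∈ C := ⟨haA, hat, by
          show (1 - E) * a0 = 1 - E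
          rw [ha0, mul_add, hc (sub_mem (one_mem _) hEm) (mul_mem hxA (mul_mem (htm hkk.1) hw'A)), hb, zero_add,
            mul_sub, mul_one, hE1', sub_zero]⟩
        refine ⟨(w, ⟨au, hau⟩), Subtype.ext (hinjE _ _ ?_)⟩
        show (e (app (gC ⟨au, hau⟩) _) : Matrix ι ι F) = kx
        rw [hgC, e.apply_symm_apply]
        show a0 * kk = kx
        rw [ha0, add_mul, sub_mul, one_mul, hkk.2, sub_self, add_zero, mul_assoc,
          hc (mul_mem (htm hkk.1) hw'A) hkk.1, ← mul_assoc kk, hc hkk.1 (htm hkk.1), hkwn, hc hwA hw'A, hww',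
          hc hxA hEm, hxE]
    -- parity
    have hPodd : Odd (Nat.card P) := by
      let ψ : ↥Kp →ₗ[F] F := φ.comp Kp.subtype
      let w₁ : ↥Kp := (2 * c / φ E) • ⟨E, hEKp⟩
      have hw₁ : ψ w₁ = 2 * c := by
        show φ ((2 * c / φ E) • E) = _
        rw [map_smul, smul_eq_mul, div_mul_cancel₀ _ hφE0]
      have hmem : ∀ w : ↥Kp, w - w₁ ∈ LinearMap.ker ψ ↔ φ (w : Matrix ι ι F) = 2 * c := fun w => by
        rw [LinearMap.mem_ker, map_sub, hw₁, sub_eq_zero]
        rfl
      rw [show Nat.card P = Nat.card ↥(LinearMap.ker ψ) from Nat.card_congr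
        ((Equiv.subRight w₁).subtypeEquiv fun w => (hmem w).symm), Module.natCard_eq_pow_finrank (K := F)]
      refine Odd.pow ?_
      rw [Nat.card_eq_fintype_card, Nat.odd_iff]
      exact FiniteField.odd_card_of_char_ne_two fun h => h2 (by
        have : CharP F 2 := ringChar.of_eq h
        exact CharTwo.two_eq_zero)
    refine Cfsg.Agent.S1924.sign_eq_neg_one _ k (Nat.card P * m) (hPodd.mul hm) ?_ ?_ ?_
    · rw [← Nat.card_eq_fintype_card, ← Nat.card_congr (Equiv.ofBijective f hf), Nat.card_prod, hcard]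
      ring
    · rw [← map_pow, ← map_pow, hu1, map_one, map_one]
    · intro x hx
      rw [← map_pow, ← map_pow, hun] at hx
      have h1 := congrArg (fun y : Shell (Q.comp L) c => (e y.1 : Matrix ι ι F)) hx
      change (e (app (gC n) x.1) : Matrix ι ι F) = (e x.1 : Matrix ι ι F) at h1
      rw [hgC] at h1
      change (1 - (2 : F) • E) * _ = _ at h1
      rw [sub_mul, one_mul, smul_mul_assoc, (e x.1).2.2, sub_eq_self, smul_eq_zero] at h1
      have hx0 : x.1 = 0 := e.injective (Subtype.ext (by rw [map_zero]; exact h1.resolve_left h2))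
      exact hc0 (by rw [← x.2, hx0, QuadraticMap.map_zero])
  refine ⟨extO L hLnd (gC u), extO_commute L hLnd _ s (mulK X (X_mem _)) (fun c => ?_) (fun c => ?_), ?_⟩
  · show X *ᵥ L c = _
    rw [hL, hL, he_mul X (X_mem _), Matrix.mulVec_mulVec]
  · refine hinjE _ _ ?_
    rw [hgC, he_mul X (X_mem _), he_mul X (X_mem _), hgC, ← mul_assoc, hc ((hmemC _).1 u.2).1 (X_mem _), mul_assoc]
  · have hd0 : d ≠ 0 := fun h => hd (h ▸ IsSquare.zero)
    rw [chiPair_map hLnd h2 hd (reflMap_extO L hLnd)]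
    exact Prod.ext (hsign 1 one_ne_zero) (hsign d hd0)

namespace SimData

variable (S : SimData Q)
include S

/-- A class-preserving similarity with non-square multiplier commuting with `s`. -/
theorem exists_commute_similitude (s : O Q) {r : ℕ} (hr : (r : F) ≠ 0) (hodd : Odd r) (hsr : mat s ^ r = 1) :
    ∃ y : ↥(Sim Q), Commute y (oS Q s) ∧ S.sq y = -1 ∧ S.sgn y = 1 := by
  classical
  have hQ := S.hQ
  have hr0 : r ≠ 0 := fun h => hr (by rw [h, Nat.cast_zero])
  set X := mat s with hX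
  set e := movedProj r X with he
  have hee : e * e = e := movedProj_idem hr hsr
  have het : tau Q e = e := tau_movedProj hQ s hsr
  have hXe : X * e = e * X := movedProj_comm r X
  have hXe1 : X * (1 - e) = 1 - e := mul_one_sub_movedProj hsr
  obtain ⟨a, haA, ha⟩ := exists_norm_on hQ s hr hodd hsr (movedProj_mem r) hee het hee
    (u := Matrix.scalar ι S.d) (scalar_mem _ _)
    ((isUnit_iff_ne_zero.2 S.hd0).map (Matrix.scalar ι)) (tau_scalar hQ _)
  set am : Matrix ι ι F := (a : Matrix ι ι F)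
  have hae : am * e = e * am := algX_comm haA (movedProj_mem r)
  have hda : ∀ z, (Matrix.scalar ι S.d) *ᵥ z = S.d • z := fun z => by
    rw [Matrix.scalar_apply, ← Matrix.smul_one_eq_diagonal, Matrix.smul_mulVec, Matrix.one_mulVec]
  have hpa : ∀ u w, polar Q (am *ᵥ (e *ᵥ u)) (am *ᵥ (e *ᵥ w)) = S.d * polar Q (e *ᵥ u) (e *ᵥ w) := by
    intro u w
    rw [Matrix.mulVec_mulVec, Matrix.mulVec_mulVec, hae, ← Matrix.mulVec_mulVec u e am, polar_mulVec hQ,
      het, Matrix.mulVec_mulVec, ← mul_assoc, hee, ← hae, polar_mulVec hQ, Matrix.mulVec_mulVec, ← mul_assoc,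
      algX_comm (mul_mem (tau_mem_algX hQ s hr0 hsr haA) haA) (movedProj_mem r), ha,
      algX_comm (movedProj_mem r) (scalar_mem _ _), ← Matrix.mulVec_mulVec, hda, QuadraticMap.polar_smul_right,
      smul_eq_mul]
    congr 1
    rw [polar_mulVec hQ, het, Matrix.mulVec_mulVec, hee]
  have hQa : ∀ u, Q (am *ᵥ (e *ᵥ u)) = S.d * Q (e *ᵥ u) := fun u => mul_left_cancel₀ S.h2 (by
    rw [← polar_self_two, hpa, polar_self_two]; ring)
  set W := LinearMap.range (Matrix.mulVecLin e)
  set δ' : Matrix ι ι F := ((S.δ.1⁻¹ : GL ι F) : Matrix ι ι F)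
  let φ : W →ₗ[F] (ι → F) := (Matrix.mulVecLin (δ' * am)).comp W.subtype
  obtain ⟨g, hg, hgφ⟩ := CfsgLib.Forms.quad_witt_extension Q hQ W φ (fun x y h => Subtype.ext
      (Matrix.mulVec_injective_of_isUnit ((S.δ.1⁻¹).isUnit.mul a.isUnit) h)) fun x => by
    obtain ⟨u, hu⟩ := x.2
    show Q ((δ' * am) *ᵥ (x : ι → F)) = Q (x : ι → F)
    rw [← hu]
    show Q ((δ' * am) *ᵥ (e *ᵥ u)) = Q (e *ᵥ u)
    refine mul_left_cancel₀ S.hd0 ?_
    rw [← hQa, ← S.hδ, Matrix.mulVec_mulVec, ← mul_assoc, Units.mul_inv, one_mul]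
  set y : ↥(Sim Q) := S.δ * oS Q (ofEquiv g hg)
  set Y : Matrix ι ι F := (y.1 : Matrix ι ι F)
  have hYe : Y * e = am * e := Matrix.ext_of_mulVec_single fun j => by
    rw [← Matrix.mulVec_mulVec, ← Matrix.mulVec_mulVec]
    show ((S.δ.1 : Matrix ι ι F) * mat (ofEquiv g hg)) *ᵥ (e *ᵥ Pi.single j 1) = _
    rw [← Matrix.mulVec_mulVec]
    show (S.δ.1 : Matrix ι ι F) *ᵥ app (ofEquiv g hg) (e *ᵥ Pi.single j 1) = _
    rw [app_ofEquiv, show g (e *ᵥ Pi.single j 1) = φ ⟨_, ⟨Pi.single j 1, rfl⟩⟩ from hgφ ⟨_, ⟨Pi.single j 1, rfl⟩⟩]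
    show (S.δ.1 : Matrix ι ι F) *ᵥ ((δ' * am) *ᵥ (e *ᵥ Pi.single j 1)) = _
    rw [Matrix.mulVec_mulVec, ← mul_assoc, Units.mul_inv, one_mul]
  have hmulty : ∀ v, Q (Y *ᵥ v) = S.d * Q v := fun v => by
    show Q (((S.δ.1 : Matrix ι ι F) * mat (ofEquiv g hg)) *ᵥ v) = _
    rw [← Matrix.mulVec_mulVec, S.hδ]
    exact congrArg _ (Q_app _ _)
  have hpY : ∀ u w, polar Q (Y *ᵥ u) (Y *ᵥ w) = S.d * polar Q u w := fun u w => by
    simp only [QuadraticMap.polar, ← Matrix.mulVec_add, hmulty]; ring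
  have hoff : e * (Y * (1 - e)) = 0 := ext_polar hQ fun u w => by
    rw [Matrix.zero_mulVec, QuadraticMap.polar_zero_right, ← Matrix.mulVec_mulVec, ← het, ← polar_mulVec hQ]
    have hew : e *ᵥ u = Y *ᵥ (e *ᵥ (((a⁻¹ : (Matrix ι ι F)ˣ) : Matrix ι ι F) *ᵥ u)) := by
      rw [Matrix.mulVec_mulVec _ Y e, hYe, hae, ← Matrix.mulVec_mulVec, Matrix.mulVec_mulVec _ am,
        Units.mul_inv, Matrix.one_mulVec]
    rw [hew, ← Matrix.mulVec_mulVec w Y, hpY, polar_mulVec hQ, het, Matrix.mulVec_mulVec, mul_sub, mul_one, hee,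
      sub_self, Matrix.zero_mulVec, QuadraticMap.polar_zero_right, mul_zero]
  have hcomm : X * Y = Y * X := by
    have hXa : X * am = am * X := algX_comm (X_mem _) haA
    have h1 : X * Y * e = Y * X * e := by
      rw [mul_assoc, hYe, ← mul_assoc, hXa, mul_assoc, hXe, ← mul_assoc, ← hYe, mul_assoc, ← hXe, mul_assoc]
    have h2 : Y * (1 - e) = (1 - e) * (Y * (1 - e)) := by rw [sub_mul 1 e, one_mul, hoff, sub_zero]
    have h3 : X * Y * (1 - e) = Y * X * (1 - e) := by
      rw [mul_assoc, mul_assoc, hXe1, h2, ← mul_assoc, hXe1]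
    calc X * Y = X * Y * e + X * Y * (1 - e) := by rw [← mul_add, add_sub_cancel, mul_one]
      _ = Y * X := by rw [h1, h3, ← mul_add, add_sub_cancel, mul_one]
  have hys : Commute y (oS Q s) := Subtype.ext (Units.ext hcomm.symm)
  have hsq : S.sq y = -1 := by rw [map_mul, S.sq_delta, S.sq_oS, mul_one]
  by_cases h : ∃ v, X *ᵥ v = v ∧ Q v ≠ 0
  · obtain ⟨v, hv, hQv⟩ := h
    rcases Int.units_eq_one_or (S.sgn y) with h1 | h1
    · exact ⟨y, hys, hsq, h1⟩
    · refine ⟨y * oS Q (refl Q v), hys.mul_left (Commute.map ?_ (oS Q)), by rw [map_mul, hsq, S.sq_oS, mul_one], ?_⟩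
      · have hc := refl_conj s v
        rw [show app s v = v from hv, mul_inv_eq_iff_eq_mul] at hc
        exact hc.symm
      · rcases Int.units_eq_one_or (S.sgn (oS Q (refl Q v))) with h2 | h2
        · rw [S.sgn_eq_one_iff, S.sdet_oS, detHom_refl hQv] at h2
          exact absurd h2 S.neg_one_ne
        · rw [map_mul, h1, h2]; decide
  · refine ⟨y, hys, hsq, ?_⟩
    have he1 : e = 1 := by
      by_contra hne
      obtain ⟨v, ⟨v', rfl⟩, hv⟩ := exists_anisotropic_sub (Q := Q)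
        (LinearMap.range (Matrix.mulVecLin (1 - e))) (fun x hx hperp => hQ.1 x fun z => by
          obtain ⟨x', rfl⟩ := hx
          show polar Q ((1 - e) *ᵥ x') z = 0
          rw [← show (1 - e) * (1 - e) = 1 - e by rw [mul_sub, mul_one, sub_mul, one_mul, hee, sub_self, sub_zero],
            ← Matrix.mulVec_mulVec, polar_mulVec hQ, tau_sub hQ, tau_one hQ, het]
          exact hperp _ ⟨z, rfl⟩)
        (by
          rw [Nat.one_le_iff_ne_zero, Ne, Submodule.finrank_eq_zero]
          intro hb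
          refine hne (sub_eq_zero.1 (Matrix.ext_of_mulVec_single (N := 1 - e) (M := 0) fun j => ?_).symm).symm
          rw [Matrix.zero_mulVec]
          exact ((Submodule.mem_bot F).1 (hb ▸ ⟨_, rfl⟩)).symm)
      refine h ⟨(1 - e) *ᵥ v', ?_, hv⟩
      rw [Matrix.mulVec_mulVec, hXe1]
    obtain ⟨w, hw, hw'⟩ := exists_skew_inverse hQ s hr hodd hsr
    rw [← he, he1] at hw'
    set D := X - tau Q X
    have hYX : Y * D = D * Y := by
      rw [show D = X - X ^ (r - 1) by rw [← tau_mat_eq hQ s hr0 hsr], mul_sub, sub_mul, hcomm,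
        (show Commute Y X from hcomm.symm).pow_right (r - 1) |>.eq]
    rw [S.sgn_eq_one_iff]
    apply Units.ext
    rw [S.sdet_apply, Units.val_one, mul_inv_eq_one₀ (pow_ne_zero _ (Units.ne_zero _)), S.mult_eq y hmulty,
      ← LinearMap.det_toLin']
    refine det_alt_similitude (Q.polarBilin.compl₂ (Matrix.toLin' D)) (fun u => ?_) (fun u hu => ?_) _ S.hd0
      (fun u w' => ?_) (by rw [Module.finrank_fintype_fun_eq_card, S.hM])
    · show polar Q u (D *ᵥ u) = 0
      rw [Matrix.sub_mulVec, polar_sub_right, ← polar_mulVec hQ, QuadraticMap.polar_comm Q (mat s *ᵥ u), sub_self]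
    · refine hQ.1 u fun z => ?_
      have h1 := hu (w *ᵥ z)
      change polar Q u (D *ᵥ (w *ᵥ z)) = 0 at h1
      rw [Matrix.mulVec_mulVec, hw', Matrix.one_mulVec] at h1
      exact h1
    · show polar Q (Y *ᵥ u) (D *ᵥ (Y *ᵥ w')) = S.d * polar Q u (D *ᵥ w')
      rw [Matrix.mulVec_mulVec, ← hYX, ← Matrix.mulVec_mulVec, hpY]

/-- Every class-preserving similarity has the class of one commuting with `s`. -/
theorem exists_commute_of_sgn (s : O Q) {r : ℕ} (hr : (r : F) ≠ 0) (hodd : Odd r) (hr1 : 1 < r)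
    (hsr : mat s ^ r = 1) (hne : s ≠ 1) {x : ↥(Sim Q)} (hx : S.sgn x = 1) :
    ∃ z : ↥(Sim Q), Commute z (oS Q s) ∧ S.sgn z = 1 ∧ qcl Q z = qcl Q x := by
  classical
  obtain ⟨h, hh, hchi⟩ := exists_commute_both S.hQ S.h2 S.hd s hr hodd hr1 hsr hne
  obtain ⟨y, hy, hy1, hy2⟩ := S.exists_commute_similitude s hr hodd hsr
  have hht : qcl Q (oS Q h) = S.ga * S.gb := by
    rw [ga, gb, ← map_mul, ← map_mul]
    exact S.qcl_congr (by rw [hchi, map_mul, S.chi_rA, S.chi_rB]; rfl)
  have hh1 : S.sgn (oS Q h) = 1 := by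
    apply S.sgn_oS_of_det
    rw [detHom_eq S.hQ S.h2 S.hd, show chi Q 1 h = -1 from congrArg Prod.fst hchi,
      show chi Q S.d h = -1 from congrArg Prod.snd hchi]
    simp
  have hh' : Commute (oS Q h) (oS Q s) := hh.map (oS Q)
  obtain ⟨t, ht, ht'⟩ : ∃ t : ↥(Sim Q), (t = 1 ∨ t = oS Q h) ∧ qcl Q (y * t) = qcl Q S.dl := by
    rcases S.qcl_sgn_one hy2 with e | e | e | e
    · have := S.sqQ_qcl y; rw [e, map_one, hy1] at this; exact absurd this (by decide)
    · have := S.sqQ_qcl y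
      rw [e, ga, gb, map_mul, S.sqQ_qcl, S.sqQ_qcl, S.sq_oS, S.sq_oS, hy1] at this
      exact absurd this (by decide)
    · exact ⟨1, Or.inl rfl, by rw [mul_one, e]⟩
    · refine ⟨oS Q h, Or.inr rfl, ?_⟩
      rw [map_mul, e, hht, S.qcl_dl_comm.symm.eq, mul_assoc, S.gab_sq, mul_one]
  have htc : Commute (y * t) (oS Q s) ∧ S.sgn (y * t) = 1 := by
    rcases ht with rfl | rfl
    · rw [mul_one]; exact ⟨hy, hy2⟩
    · exact ⟨hy.mul_left hh', by rw [map_mul, hy2, hh1, mul_one]⟩
  rcases S.qcl_sgn_one hx with e | e | e | e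
  · exact ⟨1, Commute.one_left _, map_one _, by rw [e, map_one]⟩
  · exact ⟨oS Q h, hh', hh1, by rw [e, hht]⟩
  · exact ⟨y * t, htc.1, htc.2, by rw [e, ht']⟩
  · exact ⟨oS Q h * (y * t), hh'.mul_left htc.1, by rw [map_mul, hh1, htc.2, one_mul],
      by rw [e, map_mul (qcl Q) (oS Q h), hht, ht']⟩

end SimData

end CfsgLib.POmegaSim
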