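import Cfsg.Agent.Lib.POmegaSim.SemiClass
import Cfsg.Agent.Lib.POmegaSim.Inndiag

/-!
Fusion of semisimple elements of odd prime order in the conformal image.
-/

set_option autoImplicit false
set_option linter.unusedSectionVars false

namespace CfsgLib.POmegaSim

open Matrix QuadraticMap CfsgLib.Orth Cfsg.Agent.GammaO57 Cfsg.Agent.Spinor57

variable {F : Type*} [Field F] [Fintype F] {ι : Type} [Fintype ι] [DecidableEq ι]
  {Q : QuadraticForm F (ι → F)}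

theorem poAut_eq : Cfsg.poAut F ⇑Q = (oS Q).range.map (act Q) := by
  refine autSubgroup_eq (oS Q).range (fun g => g ∈ Cfsg.isometryGroup F ⇑Q) fun g => ?_
  constructor
  · exact fun hO => ⟨(oS Q ⟨g, hO⟩).2, ⟨g, hO⟩, rfl⟩
  · rintro ⟨h, o, ho⟩
    have e : o = g := congrArg Subtype.val ho
    subst e
    exact o.2

theorem isConjUnder_iff_of_le {X : Type*} [Group X] {H G : Subgroup X} (hHG : H ≤ G) {x : X}
    (h : ∀ g ∈ G, ∃ a ∈ H, ∃ c, Commute c x ∧ g = a * c) (y : X) :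
    Cfsg.IsConjUnder H x y ↔ Cfsg.IsConjUnder G x y := by
  constructor
  · rintro ⟨a, ha, e⟩
    exact ⟨a, hHG ha, e⟩
  · rintro ⟨g, hg, rfl⟩
    obtain ⟨a, ha, c, hc, rfl⟩ := h g hg
    refine ⟨a, ha, ?_⟩
    calc a * c * x * (a * c)⁻¹ = a * (c * x) * c⁻¹ * a⁻¹ := by group
      _ = a * x * a⁻¹ := by rw [hc.eq]; group

namespace SimData

variable (S : SimData Q)
include S

/-- An element of odd prime order in the conformal image comes from an isometry of the same order. -/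
theorem exists_isometry_lift {x : MulAut (Cfsg.POmega F ⇑Q)} (hx : x ∈ Cfsg.pgoAut F ⇑Q) {r : ℕ}
    (hro : Odd r) (hxr : x ^ r = 1) : ∃ s : O Q, act Q (oS Q s) = x ∧ mat s ^ r = 1 := by
  rw [pgoAut_eq] at hx
  obtain ⟨w, -, rfl⟩ := hx
  rw [← map_pow] at hxr
  obtain ⟨k, hk⟩ := S.act_eq_one hxr
  have hinv : S.inv w = 1 := by
    have h1 : S.inv w ^ r = 1 := by rw [← map_pow, hk, S.nrm_le (S.scalarS_mem k)]
    obtain ⟨j, hj⟩ := hro
    have h2 : S.inv w ^ 2 = 1 := Prod.ext (Int.units_sq _) (Int.units_sq _)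
    rwa [hj, pow_succ, pow_mul, h2, one_pow, one_mul] at h1
  have hq : qcl Q w = 1 := by
    have h1 : qcl Q w ^ r = 1 := by
      rw [← map_pow, hk]
      exact (QuotientGroup.eq_one_iff _).2 (S.scalarS_mem k)
    rcases S.qcl_inv_one hinv with e | e
    · exact e
    · obtain ⟨j, hj⟩ := hro
      rw [e, hj, pow_succ, pow_mul, pow_two, S.gab_sq, one_pow, one_mul] at h1
      rw [e, h1]
  obtain ⟨c, s, hs⟩ := (S.mem_nrm w).1 ((QuotientGroup.eq_one_iff _).1 hq)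
  set s₀ : O Q := (s : O Q)
  have hw : w = scalarS Q c * oS Q s₀ := Subtype.ext hs
  have hact : act Q w = act Q (oS Q s₀) := by rw [hw, map_mul, S.act_scalar (scalarS Q c) c rfl, one_mul]
  rw [map_pow, hact, ← map_pow] at hxr
  obtain ⟨k', hk'⟩ := S.act_eq_one hxr
  have hkk : (k' : F) * k' = 1 := by rw [← S.mult_scalarS, ← hk', ← map_pow, S.mult_oS]; rfl
  have hm : mat s₀ ^ r = Matrix.scalar ι (k' : F) := by
    rw [← mat_pow]
    exact congrArg (fun z : ↥(Sim Q) => (z.1 : Matrix ι ι F)) ((map_pow (oS Q) s₀ r).trans hk')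
  rcases mul_self_eq_one_iff.1 hkk with e | e
  · exact ⟨s₀, hact.symm, by rw [hm, e, map_one]⟩
  · refine ⟨SimData.negO Q * s₀, ?_, ?_⟩
    · rw [hact, map_mul, map_mul, S.act_scalar (oS Q (SimData.negO Q)) (-1) rfl, one_mul]
    · have hneg : mat (SimData.negO Q) = Matrix.scalar ι (-1 : F) := by
        show Matrix.scalar ι ((-1 : Fˣ) : F) = _
        simp
      rw [mat_mul, hneg, (Matrix.scalar_commute (-1 : F) (fun r' => mul_comm _ r') (mat s₀)).mul_pow, hm, e,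
        ← map_pow, ← map_mul, hro.neg_one_pow, neg_one_mul, neg_neg, map_one]

/-- Classes of a semisimple element of odd prime order under the groups between `PΩ` and the conformal image. -/
theorem semisimple_fusion {p : ℕ} [Fact p.Prime] [CharP F p] {G : Subgroup (MulAut (Cfsg.POmega F ⇑Q))}
    (hG : G = S.sgn.ker.map (act Q)) {x : MulAut (Cfsg.POmega F ⇑Q)} (hx : x ∈ Cfsg.pgoAut F ⇑Q) {r : ℕ}
    (hr : r.Prime) (hro : Odd r) (hrp : r ≠ p) (hxr : orderOf x = r) :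
    (∀ y, (Cfsg.IsConjUnder (Cfsg.Inn (Cfsg.POmega F ⇑Q)) x y ↔ Cfsg.IsConjUnder G x y) ∧
      (Cfsg.IsConjUnder (Cfsg.psoAut F ⇑Q) x y ↔ Cfsg.IsConjUnder G x y)) ∧
    (∀ y, Cfsg.IsConjUnder (Cfsg.poAut F ⇑Q) x y ↔ Cfsg.IsConjUnder (Cfsg.pgoAut F ⇑Q) x y) := by
  obtain ⟨s, rfl, hsr⟩ := S.exists_isometry_lift hx hro (by rw [← hxr, pow_orderOf_eq_one])
  have hrF : (r : F) ≠ 0 := fun h => hrp (((Nat.prime_dvd_prime_iff_eq (Fact.out : p.Prime) hr).1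
    ((CharP.cast_eq_zero_iff F p r).1 h)).symm)
  have hne : s ≠ 1 := by
    rintro rfl
    rw [map_one, map_one, orderOf_one] at hxr
    exact hr.ne_one hxr.symm
  set I := Cfsg.Inn (Cfsg.POmega F ⇑Q)
  have key : ∀ g ∈ G, ∃ a ∈ I, ∃ c, Commute c (act Q (oS Q s)) ∧ g = a * c := by
    rw [hG]
    rintro _ ⟨w, hw, rfl⟩
    obtain ⟨z, hz, -, hzw⟩ := S.exists_commute_of_sgn s hrF hro hr.one_lt hsr hne hw
    refine ⟨act Q (w * z⁻¹), ?_, act Q z, hz.map (act Q), by rw [← map_mul, inv_mul_cancel_right]⟩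
    rw [S.act_mem_inn, ← QuotientGroup.eq_one_iff]
    show qcl Q (w * z⁻¹) = 1
    rw [map_mul, map_inv, hzw, mul_inv_cancel]
  have hIn : ∀ z : ↥(Sim Q), z ∈ nrm Q → ∃ c : Fˣ, ∃ o : O Q, detHom Q o = 1 ∧ z = scalarS Q c * oS Q o :=
    fun z hz => S.exists_special (S.nrm_le hz)
  have hI_pso : I ≤ Cfsg.psoAut F ⇑Q := by
    rintro β hβ
    rw [psoAut_eq]
    obtain ⟨w, rfl⟩ : ∃ w, act Q w = β := by
      obtain ⟨z, rfl⟩ := hβ
      obtain ⟨t, rfl⟩ := QuotientGroup.mk_surjective z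
      exact ⟨oS Q (t : O Q), gAut_omegaIn t⟩
    obtain ⟨c, o, ho, e⟩ := hIn w ((S.act_mem_inn w).1 hβ)
    refine ⟨oS Q o, ⟨o, MonoidHom.mem_ker.2 ho, rfl⟩, ?_⟩
    rw [e, map_mul, S.act_scalar (scalarS Q c) c rfl, one_mul]
  have hpso_G : Cfsg.psoAut F ⇑Q ≤ G := by
    rw [psoAut_eq, hG]
    refine Subgroup.map_mono ?_
    rintro _ ⟨o, ho, rfl⟩
    exact S.sgn_oS_of_det (MonoidHom.mem_ker.1 ho)
  refine ⟨fun y => ⟨isConjUnder_iff_of_le (hI_pso.trans hpso_G) key y,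
    isConjUnder_iff_of_le hpso_G (fun g hg => ?_) y⟩, isConjUnder_iff_of_le ?_ fun g hg => ?_⟩
  · obtain ⟨a, ha, rest⟩ := key g hg
    exact ⟨a, hI_pso ha, rest⟩
  · rw [poAut_eq, pgoAut_eq]
    exact Subgroup.map_mono le_top
  · rw [pgoAut_eq] at hg
    obtain ⟨w, -, rfl⟩ := hg
    obtain ⟨o, w', hw', rfl⟩ : ∃ (o : O Q) (w' : ↥(Sim Q)), S.sgn w' = 1 ∧ w = oS Q o * w' := by
      rcases Int.units_eq_one_or (S.sgn w) with h | h
      · exact ⟨1, w, h, by rw [map_one, one_mul]⟩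
      · exact ⟨S.rA, (oS Q S.rA)⁻¹ * w, by rw [map_mul, map_inv, S.sgn_rA, h, inv_mul_cancel],
          (mul_inv_cancel_left _ w).symm⟩
    obtain ⟨a, ha, c, hc, e⟩ := key (act Q w') (hG.ge ⟨w', hw', rfl⟩)
    refine ⟨act Q (oS Q o) * a, mul_mem ?_ ?_, c, hc, by rw [map_mul, e, mul_assoc]⟩
    · rw [poAut_eq]; exact ⟨_, ⟨o, rfl⟩, rfl⟩
    · have := hI_pso ha
      rw [psoAut_eq] at this
      rw [poAut_eq]
      exact Subgroup.map_mono (by rintro _ ⟨o', -, rfl⟩; exact ⟨o', rfl⟩) this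

end SimData

/-- The same with the form given as a function and the inner-diagonal group by a predicate. -/
theorem semisimple_fusion' {p : ℕ} [Fact p.Prime] [CharP F p] (S : SimData Q) {Qf : (ι → F) → F}
    (hQf : ⇑Q = Qf) (P : GL ι F → Prop) (hP : ∀ z : ↥(Sim Q), P z.1 ↔ S.sgn z = 1)
    (A : Subgroup (MulAut (Cfsg.POmega F Qf)))
    (hA : A = Cfsg.autSubgroupOf (fun β : Cfsg.POmega F Qf ≃* Cfsg.POmega F Qf =>
      ∃ g : GL ι F, g ∈ Cfsg.Geo.quadSimilarityGroup (F := F) Qf ∧ P g ∧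
        Cfsg.IsInducedBySemilinearPOmega Qf g (RingEquiv.refl F) β))
    {x : MulAut (Cfsg.POmega F Qf)} (hx : x ∈ Cfsg.pgoAut F Qf) {r : ℕ}
    (hr : r.Prime) (hro : Odd r) (hrp : r ≠ p) (hxr : orderOf x = r) :
    (∀ y, (Cfsg.IsConjUnder (Cfsg.Inn (Cfsg.POmega F Qf)) x y ↔ Cfsg.IsConjUnder A x y) ∧
      (Cfsg.IsConjUnder (Cfsg.psoAut F Qf) x y ↔ Cfsg.IsConjUnder A x y)) ∧
    (∀ y, Cfsg.IsConjUnder (Cfsg.poAut F Qf) x y ↔ Cfsg.IsConjUnder (Cfsg.pgoAut F Qf) x y) := by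
  subst hQf
  refine S.semisimple_fusion ?_ hx hr hro hrp hxr
  rw [hA, ← autSubgroup_eq S.sgn.ker (fun g => g ∈ Sim Q ∧ P g)
    (fun g => ⟨fun ⟨h, hp⟩ => ⟨h, (hP ⟨g, h⟩).1 hp⟩, fun ⟨h, hk⟩ => ⟨h, (hP ⟨g, h⟩).2 hk⟩⟩)]
  simp only [and_assoc]

end CfsgLib.POmegaSim
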