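import Cfsg.Agent.Lib.POmegaSim.Quot
import Cfsg.Agent.Helper57OutOdd

/-!
The quotients of the images of `GO`, `SO` and the class preserving similarities in `Aut (PΩ)`.
-/

set_option autoImplicit false
set_option linter.unusedSectionVars false

namespace CfsgLib.POmegaSim

open Matrix QuadraticMap CfsgLib.Orth Cfsg.Agent.GammaO57 Cfsg.Agent.Spinor57

variable {F : Type*} [Field F] [Fintype F] {ι : Type} [Fintype ι] [DecidableEq ι]
  {Q : QuadraticForm F (ι → F)}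

theorem units_pair_equiv : Nonempty (ℤˣ × ℤˣ ≃* Multiplicative (ZMod 2 × ZMod 2)) := by
  obtain ⟨e⟩ := units_int_equiv
  exact ⟨(MulEquiv.prodCongr e e).trans (MulEquiv.prodMultiplicative _ _).symm⟩

/-- The homomorphism of `ℤˣ` sending `-1` to an involution. -/
def invHom {G : Type*} [Group G] (g : G) (hg : g * g = 1) : ℤˣ →* G :=
  MonoidHom.mk' (fun ε => if ε = 1 then 1 else g) fun x y => by
    rcases Int.units_eq_one_or x with rfl | rfl <;> rcases Int.units_eq_one_or y with rfl | rfl <;> simp [hg]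

/-- The special orthogonal group among the similarities. -/
noncomputable def specialS (Q : QuadraticForm F (ι → F)) : Subgroup ↥(Sim Q) := (detHom Q).ker.map (oS Q)

theorem pgoAut_eq : Cfsg.pgoAut F ⇑Q = (⊤ : Subgroup ↥(Sim Q)).map (act Q) :=
  autSubgroup_eq ⊤ (fun g => g ∈ Sim Q) fun g => ⟨fun h => ⟨h, trivial⟩, fun ⟨h, _⟩ => h⟩

theorem psoAut_eq : Cfsg.psoAut F ⇑Q = (specialS Q).map (act Q) := by
  refine autSubgroup_eq (specialS Q) (fun g => g ∈ Cfsg.specialIsometryGL F ⇑Q) fun g => ?_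
  constructor
  · rintro ⟨hO, hS⟩
    refine ⟨(oS Q ⟨g, hO⟩).2, ⟨⟨g, hO⟩, ?_, rfl⟩⟩
    exact MonoidHom.mem_ker.2 hS
  · rintro ⟨h, ⟨o, ho⟩, hd, he⟩
    have e : o = g := congrArg Subtype.val he
    subst e
    exact ⟨ho, MonoidHom.mem_ker.1 hd⟩

namespace SimData

variable (S : SimData Q)
include S

theorem sgn_oS_of_det {g : O Q} (h : detHom Q g = 1) : S.sgn (oS Q g) = 1 := by
  rw [S.sgn_eq_one_iff, S.sdet_oS, h]

theorem sgn_rA : S.sgn (oS Q S.rA) = -1 := by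
  rcases Int.units_eq_one_or (S.sgn (oS Q S.rA)) with h | h
  · rw [S.sgn_eq_one_iff, S.sdet_oS, S.det_rA] at h
    exact absurd h S.neg_one_ne
  · exact h

theorem sgn_delta : S.sgn S.δ = (-1) ^ S.M := by
  rcases Nat.even_or_odd S.M with h | h
  · rw [h.neg_one_pow, S.sgn_eq_one_iff]
    exact Units.ext (S.sdet_delta.trans h.neg_one_pow)
  · rw [h.neg_one_pow]
    rcases Int.units_eq_one_or (S.sgn S.δ) with h' | h'
    · rw [S.sgn_eq_one_iff] at h'
      have := S.sdet_delta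
      rw [h', h.neg_one_pow] at this
      exact absurd (Units.ext this.symm) S.neg_one_ne
    · exact h'

/-- The class-preserving similarity with non-square multiplier. -/
noncomputable def dl : ↥(Sim Q) := S.δ * oS Q S.rA ^ S.M

theorem sgn_dl : S.sgn S.dl = 1 := by
  rw [dl, map_mul, map_pow, S.sgn_rA, S.sgn_delta, ← mul_pow]
  simp

theorem sq_dl : S.sq S.dl = -1 := by rw [dl, map_mul, map_pow, S.sq_oS, one_pow, mul_one, S.sq_delta]

theorem nrm_le {x : ↥(Sim Q)} (hx : x ∈ nrm Q) : S.inv x = 1 := by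
  obtain ⟨c, s, hs⟩ := (S.mem_nrm x).1 hx
  have e : x = scalarS Q c * oS Q (s : O Q) := Subtype.ext hs
  have hd : detHom Q (s : O Q) = 1 :=
    MonoidHom.mem_ker.1 (Abelianization.commutator_subset_ker (detHom Q) s.2)
  refine Prod.ext ?_ ?_
  · show S.sq x = 1
    rw [e, map_mul, S.sq_oS, mul_one]
    exact (sqSign_eq_one_iff _).2 ⟨c, S.mult_scalarS c⟩
  · show S.sgn x = 1
    rw [S.sgn_eq_one_iff, e, map_mul, S.sdet_scalarS, S.sdet_oS, hd, mul_one]

theorem inv_eq_of_qcl {x y : ↥(Sim Q)} (h : qcl Q x = qcl Q y) : S.inv x = S.inv y := by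
  rw [QuotientGroup.mk'_apply, QuotientGroup.mk'_apply, QuotientGroup.eq] at h
  have := S.nrm_le h
  rwa [map_mul, map_inv, inv_mul_eq_one] at this

theorem inv_surjective : Function.Surjective S.inv := by
  rintro ⟨u, v⟩
  have hA : S.inv (oS Q S.rA) = (1, -1) := Prod.ext (S.sq_oS _) S.sgn_rA
  have hD : S.inv S.dl = (-1, 1) := Prod.ext S.sq_dl S.sgn_dl
  rcases Int.units_eq_one_or u with rfl | rfl <;> rcases Int.units_eq_one_or v with rfl | rfl
  · exact ⟨1, map_one _⟩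
  · exact ⟨_, hA⟩
  · exact ⟨_, hD⟩
  · exact ⟨S.dl * oS Q S.rA, by rw [map_mul, hA, hD]; rfl⟩

theorem exists_special {x : ↥(Sim Q)} (hx : S.inv x = 1) :
    ∃ (c : Fˣ) (g : O Q), detHom Q g = 1 ∧ x = scalarS Q c * oS Q g := by
  obtain ⟨c, g, rfl⟩ := S.exists_isometry (congrArg Prod.fst hx)
  have h : S.sgn (scalarS Q c * oS Q g) = 1 := congrArg Prod.snd hx
  rw [S.sgn_eq_one_iff, map_mul, S.sdet_scalarS, S.sdet_oS, one_mul] at h
  exact ⟨c, g, h, rfl⟩

theorem qcl_special {g : O Q} (hg : detHom Q g = 1) :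
    qcl Q (oS Q g) = 1 ∨ qcl Q (oS Q g) = S.ga * S.gb := by
  classical
  rcases S.chi_of_det_one hg with h | h
  · left
    rw [S.qcl_congr (h := 1) (by rw [h, map_one]), map_one, map_one]
  · right
    rw [ga, gb, ← map_mul, ← map_mul]
    exact S.qcl_congr (by rw [h, map_mul, S.chi_rA, S.chi_rB]; rfl)

theorem qcl_inv_one {x : ↥(Sim Q)} (hx : S.inv x = 1) : qcl Q x = 1 ∨ qcl Q x = S.ga * S.gb := by
  obtain ⟨c, g, hg, rfl⟩ := S.exists_special hx
  rw [S.qcl_scalarS_mul]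
  exact S.qcl_special hg

theorem inv_one_iff (hP : negO Q ∉ Cfsg.Omega F ⇑Q) (x : ↥(Sim Q)) : S.inv x = 1 ↔ x ∈ nrm Q := by
  refine ⟨fun h => ?_, S.nrm_le⟩
  rw [← QuotientGroup.eq_one_iff]
  rcases S.qcl_inv_one h with e | e
  · exact e
  · exact e.trans (S.gab_eq_one_iff.2 hP)

theorem gb_sq : S.gb * S.gb = 1 := by
  rw [← S.gd_conj]
  calc S.gd * S.ga * S.gd * (S.gd * S.ga * S.gd) = S.gd * S.ga * (S.gd * S.gd) * (S.ga * S.gd) := by group
    _ = S.gd * (S.ga * S.ga) * S.gd := by rw [S.gd_sq]; group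
    _ = 1 := by rw [S.ga_sq, mul_one, S.gd_sq]

theorem gab_sq : S.ga * S.gb * (S.ga * S.gb) = 1 := by
  calc S.ga * S.gb * (S.ga * S.gb) = S.ga * S.gb * (S.gb * S.ga) := by rw [S.gab_comm]
    _ = S.ga * (S.gb * S.gb) * S.ga := by group
    _ = 1 := by rw [S.gb_sq, mul_one, S.ga_sq]

/-- With `-1 ∈ Ω` the quotient is dihedral of order `8`. -/
theorem nonempty_dihedral (hP : negO Q ∈ Cfsg.Omega F ⇑Q) :
    Nonempty (DihedralGroup 4 ≃* ↥(Sim Q) ⧸ nrm Q) := by
  have ht : S.ga * S.gb ≠ 1 := fun h => (S.gab_eq_one_iff.1 h) hP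
  set ρ := S.ga * S.gd
  have hρ2 : ρ ^ 2 = S.ga * S.gb := by
    rw [pow_two, ← S.gd_conj]
    show S.ga * S.gd * (S.ga * S.gd) = _
    group
  have hρ4 : ρ ^ 4 = 1 := by rw [show 4 = 2 * 2 from rfl, pow_mul, hρ2, pow_two, S.gab_sq]
  have hc : S.ga * ρ * S.ga = ρ⁻¹ := by
    rw [_root_.mul_inv_rev, inv_eq_of_mul_eq_one_right S.gd_sq, inv_eq_of_mul_eq_one_right S.ga_sq, ← mul_assoc,
      S.ga_sq, one_mul]
  let φ := Cfsg.Agent.DihExt57.dihHom ρ S.ga hρ4 S.ga_sq hc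
  refine ⟨MulEquiv.ofBijective φ
    ⟨Cfsg.Agent.DihExt57.dihHom_injective hρ4 S.ga_sq hc (by rw [hρ2]; exact ht), fun z => ?_⟩⟩
  obtain ⟨x, rfl⟩ := QuotientGroup.mk'_surjective (nrm Q) z
  have ha : φ (.sr 0) = S.ga := by
    show S.ga * ρ ^ (0 : ZMod 4).val = _
    simp
  have hr : φ (.r 1) = ρ := pow_one ρ
  have hle : Subgroup.closure ({S.ga, S.gd} : Set (↥(Sim Q) ⧸ nrm Q)) ≤ φ.range := by
    rw [Subgroup.closure_le]
    rintro y (rfl | rfl)
    · exact ⟨_, ha⟩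
    · refine ⟨.sr 0 * .r 1, ?_⟩
      rw [map_mul, ha, hr, ← mul_assoc, S.ga_sq, one_mul]
  exact hle (S.qcl_mem_closure x)

/-- `GO` modulo `SO`. -/
theorem pgo_mod_pso : ∃ φ : ↥(Cfsg.pgoAut F ⇑Q) →* Multiplicative (ZMod 2 × ZMod 2),
    Function.Surjective φ ∧ φ.ker = (Cfsg.psoAut F ⇑Q).subgroupOf (Cfsg.pgoAut F ⇑Q) := by
  obtain ⟨e⟩ := units_pair_equiv
  rw [pgoAut_eq]
  refine descend (act Q) ⊤ _ (e.toMonoidHom.comp (S.inv.comp (⊤ : Subgroup ↥(Sim Q)).subtype))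
    (e.surjective.comp fun t => ?_) fun x => ?_
  · obtain ⟨y, hy⟩ := S.inv_surjective t
    exact ⟨⟨y, trivial⟩, hy⟩
  show e (S.inv x.1) = 1 ↔ _
  rw [map_eq_one_iff e e.injective, psoAut_eq]
  constructor
  · intro h
    obtain ⟨c, g, hg, e'⟩ := S.exists_special h
    refine ⟨oS Q g, ⟨g, hg, rfl⟩, ?_⟩
    rw [e', map_mul, S.act_scalar (scalarS Q c) c rfl, one_mul]
  · rintro ⟨y, ⟨g, hg, rfl⟩, hy⟩
    have hm : x.1 * (oS Q g)⁻¹ ∈ nrm Q := by
      rw [← S.act_mem_inn, map_mul, map_inv, hy, mul_inv_cancel]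
      exact one_mem _
    have h := S.nrm_le hm
    rw [map_mul, map_inv, mul_inv_eq_one] at h
    rw [h]
    exact Prod.ext (S.sq_oS g) (S.sgn_oS_of_det hg)

/-- `GO` modulo `PΩ`. -/
theorem pgo_mod_inn :
    (negO Q ∈ Cfsg.Omega F ⇑Q → ∃ φ : ↥(Cfsg.pgoAut F ⇑Q) →* DihedralGroup 4, Function.Surjective φ ∧
      φ.ker = (Cfsg.Inn (Cfsg.POmega F ⇑Q)).subgroupOf (Cfsg.pgoAut F ⇑Q)) ∧
    (negO Q ∉ Cfsg.Omega F ⇑Q → ∃ φ : ↥(Cfsg.pgoAut F ⇑Q) →* Multiplicative (ZMod 2 × ZMod 2),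
      Function.Surjective φ ∧ φ.ker = (Cfsg.Inn (Cfsg.POmega F ⇑Q)).subgroupOf (Cfsg.pgoAut F ⇑Q)) := by
  rw [pgoAut_eq]
  constructor <;> intro hP
  · obtain ⟨e⟩ := S.nonempty_dihedral hP
    refine descend (act Q) ⊤ _ (e.symm.toMonoidHom.comp ((qcl Q).comp (⊤ : Subgroup ↥(Sim Q)).subtype))
      (e.symm.surjective.comp fun t => ?_) fun x => ?_
    · obtain ⟨y, hy⟩ := QuotientGroup.mk'_surjective (nrm Q) t
      exact ⟨⟨y, trivial⟩, hy⟩
    show e.symm (qcl Q x.1) = 1 ↔ _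
    rw [map_eq_one_iff e.symm e.symm.injective, S.act_mem_inn]
    exact QuotientGroup.eq_one_iff _
  · obtain ⟨e⟩ := units_pair_equiv
    refine descend (act Q) ⊤ _ (e.toMonoidHom.comp (S.inv.comp (⊤ : Subgroup ↥(Sim Q)).subtype))
      (e.surjective.comp fun t => ?_) fun x => ?_
    · obtain ⟨y, hy⟩ := S.inv_surjective t
      exact ⟨⟨y, trivial⟩, hy⟩
    show e (S.inv x.1) = 1 ↔ _
    rw [map_eq_one_iff e e.injective, S.act_mem_inn, S.inv_one_iff hP]

/-- The index of `PΩ` in the image of `SO`. -/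
theorem pso_relIndex :
    (negO Q ∈ Cfsg.Omega F ⇑Q → (Cfsg.Inn (Cfsg.POmega F ⇑Q)).relIndex (Cfsg.psoAut F ⇑Q) = 2) ∧
    (negO Q ∉ Cfsg.Omega F ⇑Q → (Cfsg.Inn (Cfsg.POmega F ⇑Q)).relIndex (Cfsg.psoAut F ⇑Q) = 1) := by
  have hc : (Cfsg.Inn (Cfsg.POmega F ⇑Q)).relIndex (Cfsg.psoAut F ⇑Q) = orderOf (S.ga * S.gb) := by
    rw [psoAut_eq, ← Subgroup.relIndex_comap]
    have hN : (Cfsg.Inn (Cfsg.POmega F ⇑Q)).comap (act Q) = nrm Q := Subgroup.ext fun x => S.act_mem_inn x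
    rw [hN]
    set ψ := (qcl Q).comp (specialS Q).subtype
    have hk : ψ.ker = (nrm Q).subgroupOf (specialS Q) := Subgroup.ext fun x => QuotientGroup.eq_one_iff _
    have hr : ψ.range = Subgroup.zpowers (S.ga * S.gb) := by
      refine le_antisymm ?_ (Subgroup.zpowers_le.2 ?_)
      · rintro _ ⟨⟨_, g, hg, rfl⟩, rfl⟩
        rcases S.qcl_special hg with h | h
        · show qcl Q (oS Q g) ∈ _
          rw [h]; exact one_mem _
        · show qcl Q (oS Q g) ∈ _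
          rw [h]; exact Subgroup.mem_zpowers _
      · refine ⟨⟨oS Q (S.rA * S.rB), S.rA * S.rB, ?_, rfl⟩, ?_⟩
        · refine MonoidHom.mem_ker.2 ?_; rw [map_mul, S.det_rA, S.det_rB]; simp
        · show qcl Q (oS Q (S.rA * S.rB)) = _
          rw [map_mul, map_mul]; rfl
    rw [Subgroup.relIndex, ← hk, Subgroup.index_ker, hr, Nat.card_zpowers]
  rw [hc]
  constructor <;> intro hP
  · exact orderOf_eq_prime (by rw [pow_two, S.gab_sq]) fun h => (S.gab_eq_one_iff.1 h) hP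
  · rw [S.gab_eq_one_iff.2 hP, orderOf_one]

theorem qcl_dl : qcl Q S.dl = S.gd * S.ga ^ S.M := by rw [dl, map_mul, map_pow]; rfl

theorem qcl_sgn_one {x : ↥(Sim Q)} (hx : S.sgn x = 1) :
    qcl Q x = 1 ∨ qcl Q x = S.ga * S.gb ∨ qcl Q x = qcl Q S.dl ∨ qcl Q x = S.ga * S.gb * qcl Q S.dl := by
  rcases Int.units_eq_one_or (S.sq x) with h | h
  · rcases S.qcl_inv_one (Prod.ext h hx) with e | e
    · exact Or.inl e
    · exact Or.inr (Or.inl e)
  · have h' : S.inv (x * S.dl⁻¹) = 1 := by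
      rw [map_mul, map_inv, mul_inv_eq_one]
      exact Prod.ext (h.trans S.sq_dl.symm) (hx.trans S.sgn_dl.symm)
    rcases S.qcl_inv_one h' with e | e <;> rw [map_mul, map_inv, mul_inv_eq_iff_eq_mul] at e
    · exact Or.inr (Or.inr (Or.inl (e.trans (one_mul _))))
    · exact Or.inr (Or.inr (Or.inr e))

/-- The class-preserving similarities modulo `PΩ`. -/
theorem inndiag_mod_inn {A : Subgroup (MulAut (Cfsg.POmega F ⇑Q))} (hA : A = S.sgn.ker.map (act Q)) :
    (negO Q ∉ Cfsg.Omega F ⇑Q → ∃ φ : ↥A →* Multiplicative (ZMod 2), Function.Surjective φ ∧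
      φ.ker = (Cfsg.Inn (Cfsg.POmega F ⇑Q)).subgroupOf A) ∧
    (negO Q ∈ Cfsg.Omega F ⇑Q → Odd S.M → ∃ φ : ↥A →* Multiplicative (ZMod 4), Function.Surjective φ ∧
      φ.ker = (Cfsg.Inn (Cfsg.POmega F ⇑Q)).subgroupOf A) ∧
    (negO Q ∈ Cfsg.Omega F ⇑Q → Even S.M → ∃ φ : ↥A →* Multiplicative (ZMod 2 × ZMod 2),
      Function.Surjective φ ∧ φ.ker = (Cfsg.Inn (Cfsg.POmega F ⇑Q)).subgroupOf A) := by
  subst hA
  set H := S.sgn.ker
  have hdl : S.dl ∈ H := S.sgn_dl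
  have key : ∀ {T : Type} [Group T], Nonempty (↥(H.map (qcl Q)) ≃* T) →
      ∃ φ : ↥(H.map (act Q)) →* T, Function.Surjective φ ∧
        φ.ker = (Cfsg.Inn (Cfsg.POmega F ⇑Q)).subgroupOf (H.map (act Q)) := by
    intro T _ ⟨e⟩
    refine descend (act Q) H _ (e.toMonoidHom.comp ((qcl Q).subgroupMap H))
      (e.surjective.comp ((qcl Q).subgroupMap_surjective H)) fun x => ?_
    show e ((qcl Q).subgroupMap H x) = 1 ↔ _
    rw [map_eq_one_iff e e.injective, S.act_mem_inn, Subtype.ext_iff]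
    exact QuotientGroup.eq_one_iff _
  refine ⟨fun hP => ?_, fun hP hM => key ?_, fun hP hM => key ?_⟩
  · obtain ⟨e⟩ := units_int_equiv
    refine descend (act Q) H _ (e.toMonoidHom.comp (S.sq.comp H.subtype))
      (e.surjective.comp fun t => ?_) fun x => ?_
    · rcases Int.units_eq_one_or t with rfl | rfl
      · exact ⟨1, map_one _⟩
      · exact ⟨⟨_, hdl⟩, S.sq_dl⟩
    show e (S.sq x.1) = 1 ↔ _
    rw [map_eq_one_iff e e.injective, S.act_mem_inn, ← S.inv_one_iff hP]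
    exact ⟨fun h => Prod.ext h x.2, congrArg Prod.fst⟩
  · set g := qcl Q S.dl
    have hg : g = S.gd * S.ga := by
      obtain ⟨j, hj⟩ := hM
      show qcl Q S.dl = _
      rw [S.qcl_dl, hj, pow_succ, pow_mul, pow_two, S.ga_sq, one_pow, one_mul]
    have hg2 : g ^ 2 = S.ga * S.gb := by rw [pow_two, hg, S.gab_comm, ← S.gd_conj]; group
    have hord : orderOf g = 2 ^ (1 + 1) := by
      have : Fact (Nat.Prime 2) := ⟨Nat.prime_two⟩
      refine orderOf_eq_prime_pow ?_ ?_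
      · rw [pow_one, hg2]; exact fun h => (S.gab_eq_one_iff.1 h) hP
      · rw [pow_succ, pow_one, pow_mul, hg2, pow_two, S.gab_sq]
    have hmap : H.map (qcl Q) = Subgroup.zpowers g := by
      refine le_antisymm ?_ (Subgroup.zpowers_le.2 ⟨_, hdl, rfl⟩)
      rintro _ ⟨x, hx, rfl⟩
      have hgm : g ∈ Subgroup.zpowers g := Subgroup.mem_zpowers g
      rcases S.qcl_sgn_one hx with e | e | e | e <;> rw [e]
      · exact one_mem _
      · rw [← hg2]; exact pow_mem hgm 2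
      · exact hgm
      · rw [← hg2]; exact mul_mem (pow_mem hgm 2) hgm
    rw [hmap]
    have hcy : IsCyclic ↥(Subgroup.zpowers g) := inferInstance
    have hcard : Nat.card ↥(Subgroup.zpowers g) = 4 := by rw [Nat.card_zpowers, hord]; norm_num
    exact ⟨(hcard ▸ zmodCyclicMulEquiv hcy : Multiplicative (ZMod 4) ≃* ↥(Subgroup.zpowers g)).symm⟩
  · have hg : qcl Q S.dl = S.gd := by
      obtain ⟨j, hj⟩ := hM
      rw [S.qcl_dl, hj, ← two_mul, pow_mul, pow_two, S.ga_sq, one_pow, mul_one]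
    have hcomm : Commute S.gd (S.ga * S.gb) := by
      show S.gd * (S.ga * S.gb) = S.ga * S.gb * S.gd
      calc S.gd * (S.ga * S.gb) = (S.gd * S.ga * S.gd) * (S.gd * S.gb) := by
            rw [show S.gd * S.ga * S.gd * (S.gd * S.gb) = S.gd * S.ga * (S.gd * S.gd) * S.gb by group, S.gd_sq]
            group
        _ = S.gb * (S.gd * S.gd * S.ga * S.gd) := by rw [S.gd_conj, ← S.gd_conj]; group
        _ = S.ga * S.gb * S.gd := by rw [S.gd_sq, one_mul, S.gab_comm]; group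
    let f : ℤˣ × ℤˣ →* ↥(Sim Q) ⧸ nrm Q :=
      (invHom S.gd S.gd_sq).noncommCoprod (invHom (S.ga * S.gb) S.gab_sq) fun x y => by
        rcases Int.units_eq_one_or x with rfl | rfl <;> rcases Int.units_eq_one_or y with rfl | rfl <;>
          simp [invHom, hcomm]
    have ht : S.ga * S.gb ≠ 1 := fun h => (S.gab_eq_one_iff.1 h) hP
    have hinvt : S.ga * S.gb = qcl Q (oS Q (S.rA * S.rB)) := by rw [map_mul, map_mul]; rfl
    have hinv1 : S.inv (oS Q (S.rA * S.rB)) = 1 :=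
      Prod.ext (S.sq_oS _) (S.sgn_oS_of_det (by rw [map_mul, S.det_rA, S.det_rB]; simp))
    have hd1 : S.gd ≠ 1 := fun h => by
      have := congrArg Prod.fst (S.inv_eq_of_qcl (y := 1) (h.trans (map_one _).symm))
      rw [map_one, show (S.inv S.δ).1 = -1 from S.sq_delta] at this
      exact absurd this (by decide)
    have hdt : S.gd * (S.ga * S.gb) ≠ 1 := fun h => by
      rw [hinvt, gd, ← map_mul] at h
      have := congrArg Prod.fst (S.inv_eq_of_qcl (y := 1) (h.trans (map_one _).symm))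
      rw [map_one, map_mul, hinv1, mul_one, show (S.inv S.δ).1 = -1 from S.sq_delta] at this
      exact absurd this (by decide)
    have hinj : Function.Injective f := by
      refine (injective_iff_map_eq_one f).2 ?_
      rintro ⟨x, y⟩ h
      rcases Int.units_eq_one_or x with rfl | rfl <;> rcases Int.units_eq_one_or y with rfl | rfl
      · rfl
      · simp [f, invHom, ht] at h
      · simp [f, invHom, hd1] at h
      · simp [f, invHom, hdt] at h
    have hrange : H.map (qcl Q) = f.range := by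
      refine le_antisymm ?_ ?_
      · rintro _ ⟨x, hx, rfl⟩
        rcases S.qcl_sgn_one hx with e | e | e | e <;> rw [e]
        · exact one_mem _
        · exact ⟨(1, -1), by simp [f, invHom]⟩
        · exact ⟨(-1, 1), by simp [f, invHom, hg]⟩
        · exact ⟨(-1, -1), by simp [f, invHom, hg, hcomm.eq]⟩
      · rintro _ ⟨⟨x, y⟩, rfl⟩
        have h1 : S.gd ∈ H.map (qcl Q) := ⟨_, hdl, hg⟩
        have h2 : S.ga * S.gb ∈ H.map (qcl Q) := ⟨_, (congrArg Prod.snd hinv1 : S.sgn _ = 1), hinvt.symm⟩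
        rcases Int.units_eq_one_or x with rfl | rfl <;> rcases Int.units_eq_one_or y with rfl | rfl
        · simp [f, invHom]
        · simpa [f, invHom] using h2
        · simpa [f, invHom] using h1
        · simpa [f, invHom] using mul_mem h1 h2
    obtain ⟨e⟩ := units_pair_equiv
    rw [hrange]
    exact ⟨(MonoidHom.ofInjective hinj).symm.trans e⟩

end SimData

end CfsgLib.POmegaSim
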